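/-
Binary coset actions: the regular action, transport, and ways of refuting binarity.
-/
import Mathlib

set_option autoImplicit false

namespace CfsgLib.Suzuki

open scoped Pointwise

variable {X Y : Type*} [Group X] [Group Y]

/-- The action on the cosets of `H` has relational complexity at most two. -/
def IsBinaryCosets (H : Subgroup X) : Prop :=
  ∀ (n : ℕ) (I J : Fin n → X ⧸ H), 2 ≤ n →
    (∀ i j : Fin n, i ≠ j → ∃ g : X, g • I i = J i ∧ g • I j = J j) → ∃ g : X, ∀ i, g • I i = J i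

theorem isBinaryCosets_bot : IsBinaryCosets (⊥ : Subgroup X) := by
  intro n I J hn hpair
  obtain ⟨g, hg0, -⟩ := hpair ⟨0, by omega⟩ ⟨1, by omega⟩ (by simp)
  refine ⟨g, fun i => ?_⟩
  by_cases hi : (⟨0, by omega⟩ : Fin n) = i
  · rw [← hi]; exact hg0
  obtain ⟨g', h0, h1⟩ := hpair ⟨0, by omega⟩ i hi
  have key : ∀ (a b : X) (q : X ⧸ (⊥ : Subgroup X)), a • q = b • q → a = b := by
    intro a b q e
    induction q using QuotientGroup.induction_on with
    | H x =>
      rw [MulAction.Quotient.smul_mk, MulAction.Quotient.smul_mk, QuotientGroup.eq,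
        Subgroup.mem_bot, inv_mul_eq_one, smul_eq_mul, smul_eq_mul] at e
      exact mul_right_cancel e
  rw [key g g' _ (hg0.trans h0.symm)]
  exact h1

theorem IsBinaryCosets.comap {H : Subgroup X} (hH : IsBinaryCosets H) (e : Y ≃* X) :
    IsBinaryCosets (H.comap e.toMonoidHom) := by
  intro n I J hn hpair
  let φ : Y ⧸ H.comap e.toMonoidHom → X ⧸ H :=
    Quotient.map' e (fun a b hab => by
      rw [QuotientGroup.leftRel_apply] at hab ⊢
      simpa using hab)
  have hsmul : ∀ (g : Y) (q : Y ⧸ H.comap e.toMonoidHom), φ (g • q) = e g • φ q := by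
    intro g q
    induction q using QuotientGroup.induction_on with
    | H x => exact congrArg _ (map_mul e g x)
  have hinj : Function.Injective φ := by
    intro a b
    induction a using QuotientGroup.induction_on with
    | H a =>
      induction b using QuotientGroup.induction_on with
      | H b =>
        intro hab
        have h' : (QuotientGroup.mk (e a) : X ⧸ H) = QuotientGroup.mk (e b) := hab
        rw [QuotientGroup.eq] at h' ⊢
        simpa using h'
  obtain ⟨g, hg⟩ := hH n (φ ∘ I) (φ ∘ J) hn (fun i j hij => by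
    obtain ⟨g, h1, h2⟩ := hpair i j hij
    exact ⟨e g, by simp only [Function.comp_apply, ← hsmul, h1],
      by simp only [Function.comp_apply, ← hsmul, h2]⟩)
  refine ⟨e.symm g, fun i => hinj ?_⟩
  rw [hsmul, MulEquiv.apply_symm_apply]
  exact hg i

theorem isBinaryCosets_comap_iff {H : Subgroup X} (e : Y ≃* X) :
    IsBinaryCosets (H.comap e.toMonoidHom) ↔ IsBinaryCosets H := by
  refine ⟨fun hH => ?_, fun hH => hH.comap e⟩
  have h := hH.comap e.symm
  rw [Subgroup.comap_comap, show e.toMonoidHom.comp e.symm.toMonoidHom = MonoidHom.id X by ext; simp,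
    Subgroup.comap_id] at h
  exact h

theorem isBinaryCosets_map_conj_iff {H : Subgroup X} (c : X) :
    IsBinaryCosets (H.map (MulAut.conj c).toMonoidHom) ↔ IsBinaryCosets H := by
  rw [← isBinaryCosets_comap_iff (MulAut.conj c),
    Subgroup.comap_map_eq_self_of_injective (MulAut.conj c).injective]

/-- A triple of cosets refuting binarity. -/
theorem not_binary_of_triple {H : Subgroup X} {x y z a : X} (hz : z ∈ H)
    (ha : x⁻¹ * a * x ∈ H) (hb : y⁻¹ * (a⁻¹ * z) * y ∈ H)
    (hno : ∀ c ∈ H, x⁻¹ * c * x ∈ H → y⁻¹ * (c⁻¹ * z) * y ∉ H) : ¬ IsBinaryCosets H := by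
  intro hbin
  have hfix : ∀ g w : X, w⁻¹ * g * w ∈ H → g • (w : X ⧸ H) = w := by
    intro g w hw
    rw [MulAction.Quotient.smul_mk, QuotientGroup.eq, smul_eq_mul]
    have e : (g * w)⁻¹ * w = (w⁻¹ * g * w)⁻¹ := by group
    rw [e]
    exact H.inv_mem hw
  have hmove : ∀ g : X, y⁻¹ * (g⁻¹ * z) * y ∈ H → g • (y : X ⧸ H) = ((z * y : X) : X ⧸ H) := by
    intro g hg
    rw [MulAction.Quotient.smul_mk, QuotientGroup.eq, smul_eq_mul]
    have e : (g * y)⁻¹ * (z * y) = y⁻¹ * (g⁻¹ * z) * y := by group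
    rwa [e]
  have hz1 : y⁻¹ * (z⁻¹ * z) * y ∈ H := by simp
  have h00 : ∀ g : X, g ∈ H → g • ((1 : X) : X ⧸ H) = ((1 : X) : X ⧸ H) := fun g hg =>
    hfix g 1 (by simpa using hg)
  obtain ⟨g, hg⟩ := hbin 3 ![((1 : X) : X ⧸ H), (x : X ⧸ H), (y : X ⧸ H)]
    ![((1 : X) : X ⧸ H), (x : X ⧸ H), ((z * y : X) : X ⧸ H)] (by norm_num) (by
      intro i j hij
      fin_cases i <;> fin_cases j <;> first
        | exact absurd rfl hij
        | exact ⟨1, one_smul _ _, one_smul _ _⟩
        | exact ⟨z, h00 z hz, hmove z hz1⟩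
        | exact ⟨z, hmove z hz1, h00 z hz⟩
        | exact ⟨a, hfix a x ha, hmove a hb⟩
        | exact ⟨a, hmove a hb, hfix a x ha⟩)
  have g0 : g • ((1 : X) : X ⧸ H) = ((1 : X) : X ⧸ H) := hg 0
  have g1 : g • (x : X ⧸ H) = (x : X ⧸ H) := hg 1
  have g2 : g • (y : X ⧸ H) = ((z * y : X) : X ⧸ H) := hg 2
  rw [MulAction.Quotient.smul_mk, QuotientGroup.eq, smul_eq_mul] at g0 g1 g2
  refine hno g ?_ ?_ ?_
  · simpa using g0
  · have e : x⁻¹ * g * x = ((g * x)⁻¹ * x)⁻¹ := by group
    rw [e]; exact H.inv_mem g1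
  · have e : y⁻¹ * (g⁻¹ * z) * y = (g * y)⁻¹ * (z * y) := by group
    rwa [e]

/-- Few orbits on the cosets refute binarity. -/
theorem not_binary_of_orbits [Finite X] {H : Subgroup X} (x : X) {N k : ℕ}
    (hN : Nat.card (MulAction.orbitRel.Quotient H (X ⧸ H)) ≤ N)
    (hk : Nat.card {c : X // c ∈ H ∧ x⁻¹ * c * x ∈ H} ≤ k)
    (hlt : N * N * k < H.index) : ¬ IsBinaryCosets H := by
  classical
  let Q := MulAction.orbitRel.Quotient H (X ⧸ H)
  let f : X ⧸ H → Q × Q := fun q => (Quotient.mk'' q, Quotient.mk'' (x⁻¹ • q))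
  let : Fintype (X ⧸ H) := Fintype.ofFinite _
  let : Fintype Q := Fintype.ofFinite _
  let C := {c : X // c ∈ H ∧ x⁻¹ * c * x ∈ H}
  let : Fintype C := Fintype.ofFinite _
  have hc : Fintype.card (Q × Q) * k < Fintype.card (X ⧸ H) := by
    rw [Fintype.card_prod, ← Nat.card_eq_fintype_card, ← Nat.card_eq_fintype_card, ← Subgroup.index]
    exact lt_of_le_of_lt (Nat.mul_le_mul_right k (Nat.mul_le_mul hN hN)) hlt
  obtain ⟨r, hr⟩ := Fintype.exists_lt_card_fiber_of_mul_lt_card f hc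
  obtain ⟨q₀, hq₀⟩ := Finset.card_pos.1 (lt_of_le_of_lt (Nat.zero_le k) hr)
  obtain ⟨q₁, hq₁, hout⟩ : ∃ q₁ ∈ Finset.univ.filter (fun q => f q = r),
      ∀ c : C, (c : X) • q₀ ≠ q₁ := by
    by_contra hc'
    simp only [not_exists, not_and, not_forall, not_not] at hc'
    have hsub : (Finset.univ.filter fun q => f q = r) ⊆
        Finset.image (fun c : C => (c : X) • q₀) Finset.univ := by
      intro q hq
      obtain ⟨c, hc⟩ := hc' q hq
      exact Finset.mem_image.2 ⟨c, Finset.mem_univ _, hc⟩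
    have := (Finset.card_le_card hsub).trans Finset.card_image_le
    rw [Finset.card_univ, ← Nat.card_eq_fintype_card] at this
    have hk' : Nat.card C ≤ k := hk
    omega
  rw [Finset.mem_filter] at hq₀ hq₁
  have he : f q₁ = f q₀ := hq₁.2.trans hq₀.2.symm
  obtain ⟨⟨z, hz⟩, hzq⟩ := MulAction.orbitRel_apply.1 (Quotient.eq''.1 (congrArg Prod.fst he))
  obtain ⟨⟨b, hb⟩, hbq⟩ := MulAction.orbitRel_apply.1 (Quotient.eq''.1 (congrArg Prod.snd he))
  have hzq' : z • q₀ = q₁ := hzq
  have hbq' : (x * b * x⁻¹) • q₀ = q₁ := by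
    have e : b • (x⁻¹ • q₀) = x⁻¹ • q₁ := hbq
    rw [mul_smul, mul_smul, e, smul_inv_smul]
  induction q₀ using QuotientGroup.induction_on with
  | H y =>
    refine not_binary_of_triple (H := H) (x := x) (y := y) (a := x * b * x⁻¹) hz ?_ ?_ ?_
    · rwa [show x⁻¹ * (x * b * x⁻¹) * x = b by group]
    · have e := hbq'.trans hzq'.symm
      rw [MulAction.Quotient.smul_mk, MulAction.Quotient.smul_mk, QuotientGroup.eq, smul_eq_mul,
        smul_eq_mul] at e
      rwa [show y⁻¹ * ((x * b * x⁻¹)⁻¹ * z) * y = (x * b * x⁻¹ * y)⁻¹ * (z * y) by group]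
    · intro c hc hcx hcy
      refine hout ⟨c, hc, hcx⟩ ?_
      rw [← hzq']
      show c • (y : X ⧸ H) = z • (y : X ⧸ H)
      rw [MulAction.Quotient.smul_mk, MulAction.Quotient.smul_mk, QuotientGroup.eq, smul_eq_mul,
        smul_eq_mul]
      rwa [show (c * y)⁻¹ * (z * y) = y⁻¹ * (c⁻¹ * z) * y by group]

end CfsgLib.Suzuki
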