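/-
Suzuki group: an element of order above two is often a product of two of its conjugates, and
the consequences for binary coset actions.
-/
import Cfsg.Agent.Suzuki.Chars.ClassSquare
import Cfsg.Agent.Suzuki.Binary.Criterion

set_option autoImplicit false

namespace CfsgLib.Suzuki

open scoped ComplexConjugate

variable {F : Type*} [Field F] {m : ℕ}

local notation "G" => SzG F m

variable (h : IsSzField F m)
include h

variable {φ : F → ℂ} {η η' : unip h → ℂ} {ρ : F}

/-- The trivial term bounds a character sum from below. -/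
theorem re_sum_ge (E : EtaData h φ η η' ρ) [Fintype G] (f : (G → ℂ) → ℂ)
    (b : (G → ℂ) → ℝ) (h1 : f (fun _ => 1) = 1)
    (hb : ∀ χ, Cfsg.IsIrrCharacter G χ → χ ∉ specialChars h η η' φ → -(b χ) ≤ (f χ).re) {B : ℝ}
    (hB : ∀ s : Finset (G → ℂ), (∀ χ, χ ∈ s ↔ Cfsg.IsIrrCharacter G χ ∧ χ ∉ specialChars h η η' φ) →
      ∑ χ ∈ s, b χ ≤ B) :
    1 + (f (stChar h η η' φ)).re + (f (wChar h η)).re + (f (wChar h η')).re - B ≤
      (∑ χ ∈ CfsgLib.Char.irrFinset G, f χ).re := by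
  classical
  rw [sum_irr_split h E, Complex.add_re, Complex.add_re, Complex.add_re, Complex.add_re, h1,
    Complex.one_re, Complex.re_sum]
  have hmem : ∀ χ, χ ∈ CfsgLib.Char.irrFinset G \ specialChars h η η' φ ↔
      Cfsg.IsIrrCharacter G χ ∧ χ ∉ specialChars h η η' φ := fun χ => by
    rw [Finset.mem_sdiff, CfsgLib.Char.mem_irrFinset]
  have h2 : ∑ χ ∈ CfsgLib.Char.irrFinset G \ specialChars h η η' φ, -(b χ) ≤
      ∑ χ ∈ CfsgLib.Char.irrFinset G \ specialChars h η η' φ, (f χ).re :=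
    Finset.sum_le_sum fun χ hχ => hb χ ((hmem χ).1 hχ).1 ((hmem χ).1 hχ).2
  rw [Finset.sum_neg_distrib] at h2
  have h3 := hB _ hmem
  linarith

theorem four_self_sum (E : EtaData h φ η η' ρ) [Fintype G] {a b : F} (ha : a ≠ 0) :
    4 / 5 ≤ (∑ χ ∈ CfsgLib.Char.irrFinset G,
      χ (uE h a b) * χ (uE h a b) * conj (χ (uE h a b)) / χ 1).re := by
  classical
  have := h.finite
  let : Fintype F := Fintype.ofFinite F
  obtain ⟨t, ht2, ht, hq, hq1, hk0, hk1, hk2⟩ := exists_real_param h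
  obtain ⟨hW1, -, hWf, -⟩ := wChar_values h E
  obtain ⟨hW1', -, hWf', -⟩ := wChar_values h E.swap
  have hA : (7 : ℝ) ≤ 2 * t ^ 2 - 1 := by nlinarith
  have hK2 : (5 : ℝ) ≤ 2 * t ^ 2 - 2 * t + 1 := by nlinarith
  have hd : 0 < (2 * t ^ 2 - 1) * (2 * t ^ 2 - 2 * t + 1) := mul_pos (by linarith) (by linarith)
  refine le_trans ?_ (re_sum_ge h E
    (fun χ => χ (uE h a b) * χ (uE h a b) * conj (χ (uE h a b)) / χ 1)
    (fun χ => Complex.normSq (χ (uE h a b)) / ((2 * t ^ 2 - 1) * (2 * t ^ 2 - 2 * t + 1)))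
    (by simp) (fun χ hχ hns => ?_)
    (B := (2 * t ^ 2 - 1) / ((2 * t ^ 2 - 1) * (2 * t ^ 2 - 2 * t + 1)))
    (fun s hs => by rw [← Finset.sum_div, sum_four_column h E ha hs, hq]))
  · rw [(stChar_values h E).2.2.1 a b ha, hWf' a b ha, hWf a b ha,
      (E.indU_four h ha (b := b)).1, hW1, hW1']
    simp only [map_neg, neg_mul, mul_neg, neg_neg, neg_div, Complex.neg_re, mul_zero, map_zero,
      zero_div, Complex.zero_re, add_zero, add_neg_cancel_right]
    rw [div_mul_cancel_left₀ (by linarith : (2 * t ^ 2 - 1) ≠ 0)]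
    have := inv_anti₀ (by norm_num : (0 : ℝ) < 5) hK2
    linarith
  · have hnorm : ∀ z : ℂ, (z = 1 ∨ z = -1) → ‖z‖ = 1 := by rintro z (rfl | rfl) <;> simp
    rcases family_cases h E hχ hns with hf | hf | hf <;>
      refine le_trans (neg_le_neg ?_) (neg_le_re_term χ hf.1 (uE h a b) (uE h a b)) <;>
      rw [hnorm _ (by rw [hf.2.2.1 a b ha]; simp), mul_one] <;>
      refine div_le_div_of_nonneg_left (Complex.normSq_nonneg _) hd ?_
    · rw [Nat.cast_add, Nat.cast_pow, hq, Nat.cast_one]; nlinarith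
    · rw [Nat.cast_mul, hq1, hk2]
    · rw [Nat.cast_mul, hq1, hk1]
      exact mul_le_mul_of_nonneg_left (by linarith) (by linarith)

omit h in
theorem plus_bound' (t : ℝ) (ht : t = 2 ∨ 4 ≤ t) :
    4 / ((2 * t ^ 2 - 1) * (2 * t ^ 2 - 2 * t + 1)) * (2 * t ^ 2 + 2 * t + 1 - 2 - 2 * 1) ≤
      1 - 1 / 64 - 1 / 32 + 2 / ((2 * t ^ 2 - 1) * t) := by
  rcases ht with rfl | ht
  · norm_num
  · have h2 : 31 * t ^ 2 ≤ (2 * t ^ 2 - 1) * (2 * t ^ 2 - 2 * t + 1) :=
      mul_le_mul (by nlinarith) (by nlinarith) (by positivity) (by nlinarith)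
    have hd : 0 < (2 * t ^ 2 - 1) * (2 * t ^ 2 - 2 * t + 1) := lt_of_lt_of_le (by positivity) h2
    have h1 : 4 / ((2 * t ^ 2 - 1) * (2 * t ^ 2 - 2 * t + 1)) *
        (2 * t ^ 2 + 2 * t + 1 - 2 - 2 * 1) ≤ 12 / 31 := by
      rw [div_mul_eq_mul_div, div_le_div_iff₀ hd (by norm_num)]
      nlinarith
    have h3 : 0 ≤ 2 / ((2 * t ^ 2 - 1) * t) :=
      div_nonneg (by norm_num) (mul_nonneg (by nlinarith) (by linarith))
    linarith

theorem torus_self_sum (E : EtaData h φ η η' ρ) [Fintype G] {A : Subgroup G} (hA : IsTorus A)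
    {z : G} (hz : z ∈ A) (hz1 : z ≠ 1) :
    1 / 32 ≤ (∑ χ ∈ CfsgLib.Char.irrFinset G, χ z * χ z * conj (χ z) / χ 1).re := by
  classical
  have := h.finite
  let : Fintype F := Fintype.ofFinite F
  obtain ⟨t, ht2, ht, hq, hq1, hk0, hk1, hk2⟩ := exists_real_param h
  obtain ⟨d12, d13, d23⟩ := torusOrders_distinct h
  have hA7 : (7 : ℝ) ≤ 2 * t ^ 2 - 1 := by nlinarith
  have hWt : 14 ≤ (2 * t ^ 2 - 1) * t := le_trans (by norm_num) (mul_le_mul hA7 ht2 (by norm_num)
    (by linarith))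
  have cq1 : ((Nat.card F - 1 : ℕ) : ℂ) = (Nat.card F : ℂ) - 1 := by
    rw [Nat.cast_sub (one_le_q h), Nat.cast_one]
  have hD0 : stChar h η η' φ 1 = ((Nat.card F ^ 2 : ℕ) : ℂ) := by
    rw [(stChar_values h E).1]; push_cast; rfl
  have hDW : ∀ {γ γ' : unip h → ℂ}, EtaData h φ γ γ' ρ →
      wChar h γ 1 = (((Nat.card F - 1) * 2 ^ m : ℕ) : ℂ) := fun E' => by
    rw [(wChar_values h E').1, Nat.cast_mul, cq1]; push_cast; rfl
  have rD0 : ((Nat.card F ^ 2 : ℕ) : ℝ) = (2 * t ^ 2) ^ 2 := by rw [Nat.cast_pow, hq]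
  have rDW : (((Nat.card F - 1) * 2 ^ m : ℕ) : ℝ) = (2 * t ^ 2 - 1) * t := by
    rw [Nat.cast_mul, hq1, ht]; push_cast; rfl
  have main : ∀ (c : ℝ),
      (∀ χ, Cfsg.IsIrrCharacter G χ → χ ∉ specialChars h η η' φ →
        Complex.normSq (χ z) * ‖χ z‖ / (χ 1).re ≤ c * Complex.normSq (χ z)) →
      1 + (stChar h η η' φ z).re * Complex.normSq (stChar h η η' φ z) / (2 * t ^ 2) ^ 2 +
          (wChar h η z).re * Complex.normSq (wChar h η z) / ((2 * t ^ 2 - 1) * t) +
          (wChar h η' z).re * Complex.normSq (wChar h η' z) / ((2 * t ^ 2 - 1) * t) -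
          c * ((Nat.card A : ℝ) - 1 - Complex.normSq (stChar h η η' φ z) -
            Complex.normSq (wChar h η z) - Complex.normSq (wChar h η' z)) ≤
        (∑ χ ∈ CfsgLib.Char.irrFinset G, χ z * χ z * conj (χ z) / χ 1).re := by
    intro c hc
    refine le_trans (le_of_eq ?_) (re_sum_ge h E (fun χ => χ z * χ z * conj (χ z) / χ 1)
      (fun χ => c * Complex.normSq (χ z)) (by simp) (fun χ hχ hns => ?_)
      (B := c * ((Nat.card A : ℝ) - 1 - Complex.normSq (stChar h η η' φ z) -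
        Complex.normSq (wChar h η z) - Complex.normSq (wChar h η' z)))
      (fun s hs => by rw [← Finset.mul_sum, sum_torus_column h E hA hz hz1 hs]))
    · rw [re_term _ hD0, re_term _ (hDW E), re_term _ (hDW E.swap), rD0, rDW]
    · obtain ⟨n, -, hn⟩ := CfsgLib.Char.IsIrrCharacter.exists_degree hχ
      refine le_trans (neg_le_neg ?_) (neg_le_re_term χ hn z z)
      have := hc χ hχ hns
      rwa [hn, Complex.natCast_re] at this
  have fam : ∀ (c : ℝ) (D k w : ℕ) (vz e : ℤ) (χ : G → ℂ), IsFamily h χ D k w vz e →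
      (Nat.card A = k → (w : ℝ) / D ≤ c) →
      Complex.normSq (χ z) * ‖χ z‖ / (χ 1).re ≤ c * Complex.normSq (χ z) := by
    intro c D k w vz e χ hf hc
    rw [hf.1, Complex.natCast_re]
    by_cases hk : Nat.card A = k
    · rw [mul_div_assoc, mul_comm]
      refine mul_le_mul_of_nonneg_right (le_trans ?_ (hc hk)) (Complex.normSq_nonneg _)
      exact div_le_div_of_nonneg_right (hf.2.2.2 A hA z hz hz1).2 (Nat.cast_nonneg _)
    · simp [(hf.2.2.2 A hA z hz hz1).1 hk]
  rcases special_torus h E hA hz hz1 with ⟨eA, s0, w0, w0'⟩ | ⟨eA, s0, w0, w0'⟩ | ⟨eA, s0, w0, w0'⟩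
  · refine le_trans ?_ (main (2 / ((2 * t ^ 2) ^ 2 + 1)) fun χ hχ hns => ?_)
    · rw [s0, w0, w0', eA, hk0]
      simp only [Complex.one_re, Complex.zero_re, map_one, map_zero, zero_mul, zero_div, mul_one,
        add_zero, sub_zero]
      have e1 := split_bound t ht2
      have e2 : 0 ≤ 1 / (2 * t ^ 2) ^ 2 := by positivity
      rw [show 2 * t ^ 2 - 1 - 1 - 1 = 2 * t ^ 2 - 1 - 2 by ring]
      linarith
    · rcases family_cases h E hχ hns with hf | hf | hf <;> refine fam _ _ _ _ _ _ χ hf fun ek => ?_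
      · rw [Nat.cast_add, Nat.cast_pow, hq, Nat.cast_one]; norm_num
      · exact absurd (eA.symm.trans ek) d12
      · exact absurd (eA.symm.trans ek) d13
  · refine le_trans ?_ (main (4 / ((2 * t ^ 2 - 1) * (2 * t ^ 2 - 2 * t + 1))) fun χ hχ hns => ?_)
    · rw [s0, w0, w0', eA, hk1]
      simp only [Complex.one_re, Complex.neg_re, map_one, Complex.normSq_neg, mul_one]
      have e1 := plus_bound' t (by
        rcases Nat.lt_or_ge m 2 with hm | hm
        · left; rw [ht, show m = 1 by have := h.pos; omega, pow_one]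
        · right; rw [ht]
          calc (4 : ℝ) = 2 ^ 2 := by norm_num
            _ ≤ 2 ^ m := pow_le_pow_right₀ one_le_two hm)
      have e2 : 1 / (2 * t ^ 2) ^ 2 ≤ 1 / 64 :=
        one_div_le_one_div_of_le (by norm_num) (by nlinarith)
      have e3 : 2 / ((2 * t ^ 2 - 1) * t) =
          1 / ((2 * t ^ 2 - 1) * t) + 1 / ((2 * t ^ 2 - 1) * t) := by ring
      rw [show 2 * t ^ 2 + 2 * t + 1 - 1 - 1 - 1 - 1 = 2 * t ^ 2 + 2 * t + 1 - 2 - 2 * 1 by ring,
        neg_div]
      linarith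
    · rcases family_cases h E hχ hns with hf | hf | hf <;> refine fam _ _ _ _ _ _ χ hf fun ek => ?_
      · exact absurd (ek.symm.trans eA) d12
      · rw [Nat.cast_mul, hq1, hk2]; norm_num
      · exact absurd (eA.symm.trans ek) d23
  · refine le_trans ?_ (main (4 / ((2 * t ^ 2 - 1) * (2 * t ^ 2 + 2 * t + 1))) fun χ hχ hns => ?_)
    · rw [s0, w0, w0', eA, hk2]
      simp only [Complex.one_re, Complex.neg_re, map_one, Complex.normSq_neg, mul_one]
      have e1 := minus_bound t ht2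
      have e2 : 1 / (2 * t ^ 2) ^ 2 ≤ 1 / 64 :=
        one_div_le_one_div_of_le (by norm_num) (by nlinarith)
      have e3 : 1 / ((2 * t ^ 2 - 1) * t) ≤ 1 / 14 := one_div_le_one_div_of_le (by norm_num) hWt
      rw [show 2 * t ^ 2 - 2 * t + 1 - 1 - 1 - 1 - 1 = 2 * t ^ 2 - 2 * t + 1 - 2 - 2 * 1 by ring,
        neg_div, neg_div]
      linarith
    · rcases family_cases h E hχ hns with hf | hf | hf <;> refine fam _ _ _ _ _ _ χ hf fun ek => ?_
      · exact absurd (ek.symm.trans eA) d13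
      · exact absurd (ek.symm.trans eA) d23
      · rw [Nat.cast_mul, hq1, hk1]; norm_num

/-- Some factorisation avoids a small set. -/
theorem exists_product_outside [Fintype G] {z : G} {T : ℝ}
    (hT : T ≤ (∑ χ ∈ CfsgLib.Char.irrFinset G, χ z * χ z * conj (χ z) / χ 1).re) (S : Set G)
    (hS : (S.ncard : ℝ) * (Nat.card (Subgroup.centralizer ({z} : Set G)) : ℝ) ^ 2 <
      (Nat.card G : ℝ) * T) :
    ∃ u v : G, u * z * u⁻¹ ∉ S ∧ (u * z * u⁻¹) * (v * z * v⁻¹) = z := by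
  classical
  by_contra hno
  simp only [not_exists, not_and] at hno
  let P := {p : G × G // IsConj z p.1 ∧ IsConj z p.2 ∧ p.1 * p.2 = z}
  have hle : Nat.card P ≤ S.ncard := by
    rw [← Nat.card_coe_set_eq]
    have hin : ∀ p : P, p.1.1 ∈ S := by
      rintro ⟨⟨a, b⟩, ha, hb, hab⟩
      obtain ⟨u, rfl⟩ := isConj_iff.1 ha
      obtain ⟨v, rfl⟩ := isConj_iff.1 hb
      by_contra hc
      exact hno u v hc hab
    refine Nat.card_le_card_of_injective (fun p : P => (⟨p.1.1, hin p⟩ : S)) ?_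
    rintro ⟨⟨a, b⟩, ha, hb, hab⟩ ⟨⟨a', b'⟩, ha', hb', hab'⟩ e
    obtain rfl : a = a' := congrArg Subtype.val e
    obtain rfl : b = b' := mul_left_cancel (hab.trans hab'.symm)
    rfl
  have hcls : (Nat.card {x : G // IsConj z x} : ℂ) *
      (Nat.card (Subgroup.centralizer ({z} : Set G)) : ℂ) = (Nat.card G : ℂ) := by
    exact_mod_cast CfsgLib.Char.card_conj_class_mul_card_centralizer z
  have hG : (Nat.card G : ℂ) ≠ 0 := Nat.cast_ne_zero.2 Nat.card_pos.ne'
  have e : ((Nat.card P : ℝ) * (Nat.card (Subgroup.centralizer ({z} : Set G)) : ℝ) ^ 2 : ℝ) =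
      (Nat.card G : ℝ) * (∑ χ ∈ CfsgLib.Char.irrFinset G, χ z * χ z * conj (χ z) / χ 1).re := by
    have e0 : (((Nat.card P : ℝ) * (Nat.card (Subgroup.centralizer ({z} : Set G)) : ℝ) ^ 2 : ℝ) : ℂ) =
        ((Nat.card G : ℝ) : ℂ) * ∑ χ ∈ CfsgLib.Char.irrFinset G, χ z * χ z * conj (χ z) / χ 1 := by
      push_cast
      rw [show (Nat.card P : ℂ) = _ from CfsgLib.Char.card_class_products z z z]
      rw [← hcls]
      field_simp
    have e1 := congrArg Complex.re e0
    rwa [Complex.ofReal_re, Complex.re_ofReal_mul] at e1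
  have h1 := mul_le_mul_of_nonneg_right (Nat.cast_le (α := ℝ).2 hle)
    (sq_nonneg (Nat.card (Subgroup.centralizer ({z} : Set G)) : ℝ))
  have h2 := mul_le_mul_of_nonneg_left hT (Nat.cast_nonneg (Nat.card G))
  linarith

/-- Subgroups of `U` with elements of order four. -/
theorem not_binary_four {H : Subgroup G} (hH : H ≤ unip h) {a b : F} (ha : a ≠ 0)
    (hmem : uE h a b ∈ H) : ¬ IsBinaryCosets H := by
  classical
  have := h.finite
  have := finite_G h
  let : Fintype (SzG F m) := Fintype.ofFinite _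
  obtain ⟨φ, η, η', ρ, E⟩ := exists_etaData h
  set z := uE h a b with hz
  have hz1 : z ≠ 1 := fun e => ha ((uE_eq_one h).1 e).1
  obtain ⟨u, v, hu, huv⟩ := exists_product_outside h (four_self_sum h E ha (b := b)) (unip h : Set G)
    (by
      obtain ⟨t, ht2, -, hq, hq1, -⟩ := exists_real_param h
      rw [← Nat.card_coe_set_eq, SetLike.coe_sort_coe, card_unip, card_centralizer_four h ha,
        card_Sz h]
      have := one_le_q h
      push_cast [Nat.cast_sub this]
      rw [hq]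
      have h8 : (8 : ℝ) ≤ 2 * t ^ 2 := by nlinarith
      generalize 2 * t ^ 2 = q at h8 ⊢
      have h1 : 4 * q ^ 2 < (q ^ 2 + 1) * (q - 1) * (4 / 5) := by
        nlinarith [mul_nonneg (sub_nonneg.2 h8) (sq_nonneg q)]
      have h2 := mul_lt_mul_of_pos_left h1 (show 0 < q ^ 2 by positivity)
      nlinarith [h2])
  have huB : u ∉ borel F m := fun hb => hu
    ((Subgroup.mem_normalizer_iff.1 (borel_le_normalizer h hb) z).1 (uE_mem h a b))
  refine not_binary_of_triple (x := u) (y := v) (z := z) (a := u * z * u⁻¹) hmem ?_ ?_ ?_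
  · rwa [show u⁻¹ * (u * z * u⁻¹) * u = z by group]
  · rw [show (u * z * u⁻¹)⁻¹ * z = v * z * v⁻¹ by rw [inv_mul_eq_iff_eq_mul, huv],
      show v⁻¹ * (v * z * v⁻¹) * v = z by group]
    exact hmem
  · intro c hc hcx hcy
    have hc1 : c = 1 := by
      by_contra hne
      refine huB (inv_mem_iff.1 (mem_borel_of_conj_mem_unip h (hH hc) hne (g := u⁻¹) ?_))
      rw [inv_inv]; exact hH hcx
    subst hc1
    rw [inv_one, one_mul] at hcy
    have hvB : v ∈ borel F m := by
      refine inv_mem_iff.1 (mem_borel_of_conj_mem_unip h (hH hmem) hz1 (g := v⁻¹) ?_)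
      rw [inv_inv]; exact hH hcy
    apply hu
    rw [eq_mul_inv_of_mul_eq huv]
    exact (unip h).mul_mem (uE_mem h a b) ((unip h).inv_mem
      ((Subgroup.mem_normalizer_iff.1 (borel_le_normalizer h hvB) z).1 (uE_mem h a b)))

/-- Subgroups of tori. -/
theorem not_binary_torus {A : Subgroup G} (hA : IsTorus A) {H : Subgroup G} (hH : H ≤ A)
    (hbot : H ≠ ⊥) : ¬ IsBinaryCosets H := by
  classical
  have := h.finite
  have := finite_G h
  let : Fintype (SzG F m) := Fintype.ofFinite _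
  obtain ⟨φ, η, η', ρ, E⟩ := exists_etaData h
  obtain ⟨z, hzH, hz1⟩ := H.bot_or_exists_ne_one.resolve_left hbot
  have hzA := hH hzH
  have hmem : ∀ {w c : G}, w ∈ A → w ≠ 1 → c * w * c⁻¹ ∈ A → c ∈ Subgroup.normalizer (A : Set G) :=
    fun {w c} hw hw1 hc => isTI_of_centralizer (fun x hx hx1 => hA.eq_centralizer h hx hx1)
      c w hw hw1 hc
  set N := Subgroup.normalizer (A : Set G)
  have hbad : {g : G | g ∈ A ∧ IsConj z g}.ncard ≤ 4 := by
    have hsub : {g : G | g ∈ A ∧ IsConj z g} ⊆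
        Set.range fun q : N ⧸ A.subgroupOf N => ((q.out : N) : G) * z * ((q.out : N) : G)⁻¹ := by
      rintro g ⟨hgA, hg⟩
      obtain ⟨c, rfl⟩ := isConj_iff.1 hg
      have hcN := hmem hzA hz1 hgA
      refine ⟨((⟨c, hcN⟩ : N) : N ⧸ A.subgroupOf N), ?_⟩
      obtain ⟨⟨w, hw⟩, hout⟩ := QuotientGroup.mk_out_eq_mul (A.subgroupOf N) (⟨c, hcN⟩ : N)
      simp only [hout, Subgroup.coe_mul]
      let : CommGroup A := hA.1.commGroup
      have hwA : (w : G) ∈ A := Subgroup.mem_subgroupOf.1 hw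
      have e : (w : G) * z = z * w := congrArg Subtype.val (mul_comm (⟨w, hwA⟩ : A) ⟨z, hzA⟩)
      rw [show c * (w : G) * z * (c * (w : G))⁻¹ = c * ((w : G) * z) * (w : G)⁻¹ * c⁻¹ by group, e]
      group
    refine (Set.ncard_le_ncard hsub (Set.finite_range _)).trans ?_
    rw [← Nat.card_coe_set_eq]
    refine (Finite.card_range_le _).trans ?_
    rw [← Subgroup.index, hA.index_subgroupOf h]
    unfold torusWeight; split_ifs <;> norm_num
  obtain ⟨u, v, hu, huv⟩ := exists_product_outside h (torus_self_sum h E hA hzA hz1)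
    {g : G | g ∈ A ∧ IsConj z g} (by
      obtain ⟨t, ht2, -, hq, hq1, hk0, hk1, hk2⟩ := exists_real_param h
      rw [hA.eq_centralizer h hzA hz1, card_Sz h]
      refine lt_of_le_of_lt (mul_le_mul_of_nonneg_right (Nat.cast_le.2 hbad) (sq_nonneg _)) ?_
      push_cast [Nat.cast_sub (one_le_q h)]
      rw [hq]
      have hk : (Nat.card A : ℝ) ≤ 2 * t ^ 2 + 2 * t + 1 := by
        rcases hA.2 with e | e | (e : Nat.card A = _) <;> rw [e] <;>
          first | (rw [hk0]; linarith) | (rw [hk1]) | (rw [hk2]; linarith)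
      have hk' : 2 * t ^ 2 + 2 * t + 1 ≤ 13 / 8 * (2 * t ^ 2) := by nlinarith
      have h8 : (8 : ℝ) ≤ 2 * t ^ 2 := by nlinarith
      have h0 : (0 : ℝ) ≤ (Nat.card A : ℝ) := Nat.cast_nonneg _
      have hsq := pow_le_pow_left₀ h0 (hk.trans hk') 2
      generalize (Nat.card A : ℝ) = k at hsq ⊢
      generalize 2 * t ^ 2 = q at h8 hsq ⊢
      have h1 : 4 * (169 / 64) * 32 < (q ^ 2 + 1) * (q - 1) := by
        have : 65 * 7 ≤ (q ^ 2 + 1) * (q - 1) :=
          mul_le_mul (by nlinarith) (by linarith) (by norm_num) (by positivity)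
        linarith
      have h2 := mul_lt_mul_of_pos_left h1 (show 0 < q ^ 2 by positivity)
      nlinarith [h2, hsq])
  have huA : u * z * u⁻¹ ∉ A := fun e => hu ⟨e, isConj_iff.2 ⟨u, rfl⟩⟩
  refine not_binary_of_triple (x := u) (y := v) (z := z) (a := u * z * u⁻¹) hzH ?_ ?_ ?_
  · rwa [show u⁻¹ * (u * z * u⁻¹) * u = z by group]
  · rw [show (u * z * u⁻¹)⁻¹ * z = v * z * v⁻¹ by rw [inv_mul_eq_iff_eq_mul, huv],
      show v⁻¹ * (v * z * v⁻¹) * v = z by group]
    exact hzH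
  · intro c hc hcx hcy
    have hc1 : c = 1 := by
      by_contra hne
      refine huA ((Subgroup.mem_normalizer_iff.1 (inv_mem_iff.1 (hmem (hH hc) hne ?_)) z).1 hzA)
      rw [inv_inv]; exact hH hcx
    subst hc1
    rw [inv_one, one_mul] at hcy
    have hvN : v ∈ Subgroup.normalizer (A : Set G) :=
      inv_mem_iff.1 (hmem hzA hz1 (by rw [inv_inv]; exact hH hcy))
    apply huA
    rw [eq_mul_inv_of_mul_eq huv]
    exact A.mul_mem hzA (A.inv_mem ((Subgroup.mem_normalizer_iff.1 hvN z).1 hzA))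

end CfsgLib.Suzuki
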