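/-
A proper nonzero additive subgroup of a finite field is not in general position with all its
multiples.
-/
import Mathlib

set_option autoImplicit false

namespace CfsgLib.Suzuki

variable {F : Type*} [Field F] [Finite F]

/-- The multiple of an additive subgroup. -/
abbrev scaleSub (a : F) (W : AddSubgroup F) : AddSubgroup F := W.map (AddMonoidHom.mulLeft a)

theorem mem_scaleSub {a x : F} {W : AddSubgroup F} : x ∈ scaleSub a W ↔ ∃ w ∈ W, a * w = x :=
  Iff.rfl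

omit [Field F] [Finite F] in
theorem scale_ineq (a b : ℝ) (hb : 2 ≤ b) (hba : b ≤ a) (hab : 8 ≤ a * b)
    (hb' : b = 2 ∨ 4 ≤ b) : b * (a + b - 3) ^ 2 < (a * b - 2) ^ 2 := by
  rcases hb' with rfl | hb4
  · nlinarith [mul_pos (show (0 : ℝ) < a - 1 by linarith) (show (0 : ℝ) < a - 1 by linarith)]
  · have h1 : (a + b - 3) ^ 2 ≤ (2 * a - 3) ^ 2 := pow_le_pow_left₀ (by linarith) (by linarith) 2
    have h2 : b * (a + b - 3) ^ 2 ≤ b * (2 * a - 3) ^ 2 := mul_le_mul_of_nonneg_left h1 (by linarith)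
    have h3 : 0 ≤ a ^ 2 * b * (b - 4) :=
      mul_nonneg (mul_nonneg (sq_nonneg a) (by linarith)) (by linarith)
    have h4 : 0 < b * (8 * a - 9) := mul_pos (by linarith) (by linarith)
    nlinarith [h2, h3, h4]

omit [Field F] [Finite F] in
theorem avg_small_one (N R P : ℝ) (hN : 0 < N) (hR : 0 < R)
    (hlt : R * (N + R - 3) ^ 2 < (N * R - 2) ^ 2) (hb : N ^ 3 ≤ N * R * P)
    (hsq : (N * R - 2) ^ 2 * P ≤ (N * (N + R - 3)) ^ 2) : False := by
  have h1 := mul_le_mul_of_nonneg_left hb (sq_nonneg (N * R - 2))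
  have h2 := mul_le_mul_of_nonneg_left hsq (mul_nonneg hN.le hR.le)
  have h3 := mul_lt_mul_of_pos_left hlt (pow_pos hN 3)
  linarith

omit [Field F] [Finite F] in
theorem avg_small_two (N R P : ℝ) (hN : 0 < N)
    (hlt : N * (R + N - 3) ^ 2 < (R * N - 2) ^ 2) (hb : N ≤ P)
    (hsq : (N * R - 2) ^ 2 * P ≤ (N * (N + R - 3)) ^ 2) : False := by
  have h1 := mul_le_mul_of_nonneg_left hb (sq_nonneg (N * R - 2))
  have h3 := mul_lt_mul_of_pos_left hlt hN
  linarith

/-- Some element of `W` lies in `aW + bW` but not in `(W ∩ aW) + bW`. -/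
theorem exists_scalar_triple [CharP F 2] {n : ℕ} (hq : Nat.card F = 2 ^ n) (hn : 3 ≤ n)
    (W : AddSubgroup F) (hbot : W ≠ ⊥) (htop : W ≠ ⊤) :
    ∃ a b w u v : F, a ≠ 0 ∧ b ≠ 0 ∧ w ∈ W ∧ u ∈ W ∧ v ∈ W ∧ w = a * u + b * v ∧
      ∀ c ∈ W, c ∈ scaleSub a W → w - c ∉ scaleSub b W := by
  classical
  let : Fintype F := Fintype.ofFinite F
  by_contra hno
  have hdist : ∀ a b : F, a ≠ 0 → b ≠ 0 → ∀ u ∈ W, ∀ v ∈ W, a * u + b * v ∈ W →
      ∃ c ∈ W, c ∈ scaleSub a W ∧ a * u + b * v - c ∈ scaleSub b W := by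
    intro a b ha hb u hu v hv hw
    by_contra hno'
    exact hno ⟨a, b, _, u, v, ha, hb, hw, hu, hv, rfl, fun c hc hca hcb => hno' ⟨c, hc, hca, hcb⟩⟩
  let I : F → ℕ := fun a => Nat.card (W ⊓ scaleSub a W : AddSubgroup F)
  have h2 : ∀ x : F, x + x = 0 := fun x => CharTwo.add_self_eq_zero x
  -- first bound
  have b1 : ∀ a : F, a ≠ 0 → 1 + a ≠ 0 → Nat.card W ≤ I a * I (1 + a) := by
    intro a ha ha'
    let f : (W ⊓ scaleSub a W : AddSubgroup F) × (W ⊓ scaleSub (1 + a) W : AddSubgroup F) → W :=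
      fun p => ⟨(p.1 : F) + p.2, W.add_mem p.1.2.1 p.2.2.1⟩
    have hf : Function.Surjective f := by
      rintro ⟨w, hw⟩
      have e : a * w + (1 + a) * w = w := by linear_combination h2 (a * w)
      obtain ⟨c, hc, hca, hcb⟩ := hdist a (1 + a) ha ha' w hw w hw (by rwa [e])
      rw [e] at hcb
      exact ⟨(⟨c, hc, hca⟩, ⟨w - c, W.sub_mem hw hc, hcb⟩), Subtype.ext (add_sub_cancel c w)⟩
    have := Nat.card_le_card_of_surjective f hf
    rwa [Nat.card_prod] at this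
  -- symmetry
  have hinv : ∀ a : F, a ≠ 0 → I a⁻¹ = I a := by
    intro a ha
    let g : (W ⊓ scaleSub a⁻¹ W : AddSubgroup F) → (W ⊓ scaleSub a W : AddSubgroup F) := fun x =>
      ⟨a * x, by
        obtain ⟨w, hw, e⟩ := mem_scaleSub.1 x.2.2
        rw [← e, mul_inv_cancel_left₀ ha]
        exact hw, mem_scaleSub.2 ⟨x, x.2.1, rfl⟩⟩
    refine Nat.card_eq_of_bijective g ⟨fun x y e => Subtype.ext
      (mul_left_cancel₀ ha (congrArg Subtype.val e)), ?_⟩
    rintro ⟨y, hyW, hy⟩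
    obtain ⟨w, hw, rfl⟩ := mem_scaleSub.1 hy
    refine ⟨⟨w, hw, mem_scaleSub.2 ⟨a * w, hyW, inv_mul_cancel_left₀ ha w⟩⟩, rfl⟩
  -- second bound
  have b2 : ∀ a : F, a ≠ 0 → 1 + a ≠ 0 →
      Nat.card W ^ 3 ≤ Nat.card F * (I a * I (1 + a)) := by
    intro a ha ha'
    have hXY : ∀ u ∈ W, ∀ v ∈ W, a⁻¹ * u = (1 + a)⁻¹ * v → a⁻¹ * u ∈ W := by
      intro u hu v hv e
      have e' : v = a⁻¹ * u + u := by
        have e1 : (1 + a) * (a⁻¹ * u) = v := by rw [e, mul_inv_cancel_left₀ ha']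
        rw [← e1, add_mul, one_mul, mul_inv_cancel_left₀ ha]
      have e2 : a⁻¹ * u = v - u := by rw [e', add_sub_cancel_right]
      rw [e2]
      exact W.sub_mem hv hu
    have key : ∀ c d : F, c ≠ 0 → d ≠ 0 → (∀ u ∈ W, ∀ v ∈ W, c * u = d * v → c * u ∈ W) →
        ∀ w ∈ W, ∀ u ∈ W, ∀ v ∈ W, c * u = w + d * v → c * u ∈ W := by
      intro c d hc hd hcd w hw u hu v hv e
      have e1 : c⁻¹ * w + c⁻¹ * d * v = u := by
        rw [mul_assoc, ← mul_add, ← e, inv_mul_cancel_left₀ hc]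
      obtain ⟨z, hz, hza, hzb⟩ := hdist c⁻¹ (c⁻¹ * d) (inv_ne_zero hc)
        (mul_ne_zero (inv_ne_zero hc) hd) w hw v hv (by rw [e1]; exact hu)
      rw [e1] at hzb
      obtain ⟨z', hz', ez⟩ := mem_scaleSub.1 hza
      obtain ⟨v', hv', ev⟩ := mem_scaleSub.1 hzb
      have h1 : c * z = z' := by rw [← ez, mul_inv_cancel_left₀ hc]
      have h2' : c * (u - z) = d * v' := by rw [← ev, mul_assoc, mul_inv_cancel_left₀ hc]
      have h3 : c * (u - z) ∈ W := hcd _ (W.sub_mem hu hz) _ hv' h2'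
      rw [show c * u = z' + c * (u - z) by rw [← h1]; ring]
      exact W.add_mem hz' h3
    let Φ : W × W × W →+ F :=
      { toFun := fun p => (p.1 : F) + a⁻¹ * p.2.1 + (1 + a)⁻¹ * p.2.2
        map_zero' := by simp
        map_add' := fun p p' => by
          simp only [Prod.fst_add, Prod.snd_add, AddSubgroup.coe_add]; ring }
    have hker : ∀ p : W × W × W, Φ p = 0 →
        a⁻¹ * (p.2.1 : F) ∈ W ∧ (1 + a)⁻¹ * (p.2.2 : F) ∈ W := by
      rintro ⟨⟨w, hw⟩, ⟨u, hu⟩, ⟨v, hv⟩⟩ e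
      have e0 : w + a⁻¹ * u + (1 + a)⁻¹ * v = 0 := e
      have h1 : a⁻¹ * u ∈ W := key _ _ (inv_ne_zero ha) (inv_ne_zero ha') hXY w hw u hu v hv
        (by linear_combination e0 - h2 w - h2 ((1 + a)⁻¹ * v))
      refine ⟨h1, ?_⟩
      have e1 : (1 + a)⁻¹ * v = -(w + a⁻¹ * u) := by linear_combination e0
      show (1 + a)⁻¹ * v ∈ W
      rw [e1]
      exact W.neg_mem (W.add_mem hw h1)
    let g : Φ.ker → (W ⊓ scaleSub a⁻¹ W : AddSubgroup F) × (W ⊓ scaleSub (1 + a)⁻¹ W : AddSubgroup F) :=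
      fun p => (⟨a⁻¹ * (p.1.2.1 : F), (hker _ p.2).1, mem_scaleSub.2 ⟨_, p.1.2.1.2, rfl⟩⟩,
        ⟨(1 + a)⁻¹ * (p.1.2.2 : F), (hker _ p.2).2, mem_scaleSub.2 ⟨_, p.1.2.2.2, rfl⟩⟩)
    have hg : Function.Injective g := by
      rintro ⟨⟨w, u, v⟩, e⟩ ⟨⟨w', u', v'⟩, e'⟩ he
      have eu : (u : F) = u' :=
        mul_left_cancel₀ (inv_ne_zero ha) (congrArg (fun r => (r.1 : F)) he)
      have ev : (v : F) = v' :=
        mul_left_cancel₀ (inv_ne_zero ha') (congrArg (fun r => (r.2 : F)) he)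
      have h0 : (w : F) + a⁻¹ * u + (1 + a)⁻¹ * v = 0 := e
      have h0' : (w' : F) + a⁻¹ * u' + (1 + a)⁻¹ * v' = 0 := e'
      rw [eu, ev] at h0
      have ew : (w : F) = w' := by linear_combination h0 - h0'
      obtain rfl := Subtype.ext ew
      obtain rfl := Subtype.ext eu
      obtain rfl := Subtype.ext ev
      rfl
    have h1 := Nat.card_le_card_of_injective g hg
    rw [Nat.card_prod] at h1
    have hi1 : Nat.card (W ⊓ scaleSub a⁻¹ W : AddSubgroup F) = I a := hinv a ha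
    have hi2 : Nat.card (W ⊓ scaleSub (1 + a)⁻¹ W : AddSubgroup F) = I (1 + a) := hinv _ ha'
    rw [hi1, hi2] at h1
    have h3 := Φ.ker.card_mul_index
    rw [AddSubgroup.index_ker, Nat.card_prod, Nat.card_prod] at h3
    have h4 : Nat.card Φ.range ≤ Nat.card F :=
      Nat.card_le_card_of_injective _ Subtype.val_injective
    calc Nat.card W ^ 3 = Nat.card W * (Nat.card W * Nat.card W) := by ring
      _ = Nat.card Φ.ker * Nat.card Φ.range := h3.symm
      _ ≤ (I a * I (1 + a)) * Nat.card F := Nat.mul_le_mul h1 h4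
      _ = _ := by ring
  -- counting
  set A := (Finset.univ : Finset F).filter (fun a => a ≠ 0 ∧ 1 + a ≠ 0) with hA
  have hAcard : A.card = Nat.card F - 2 := by
    have e : A = ((Finset.univ : Finset F).erase 0).erase 1 := by
      ext a
      simp only [hA, Finset.mem_filter, Finset.mem_univ, true_and, Finset.mem_erase, and_true]
      constructor
      · rintro ⟨h0, h1⟩; exact ⟨fun e => h1 (by rw [e, h2]), h0⟩
      · rintro ⟨h1, h0⟩; exact ⟨h0, fun e => h1 (by linear_combination e - h2 1)⟩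
    rw [e, Finset.card_erase_of_mem (by simp), Finset.card_erase_of_mem (Finset.mem_univ _),
      Finset.card_univ, Nat.card_eq_fintype_card]
    omega
  set S : Finset F := Finset.univ.filter (fun x => x ∈ W ∧ x ≠ 0) with hS
  have hScard : S.card = Nat.card W - 1 := by
    have e : S = ((Finset.univ : Finset F).filter (fun x => x ∈ W)).erase 0 := by
      ext x; simp [hS, and_comm]
    rw [e, Finset.card_erase_of_mem (by simp), Nat.card_eq_fintype_card, Fintype.card_subtype]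
  have hN1 : 1 < Nat.card W := by
    rcases Nat.lt_or_ge 1 (Nat.card W) with h' | h'
    · exact h'
    · exact absurd ((AddSubgroup.eq_bot_iff_card W).2 (le_antisymm h' Nat.card_pos)) hbot
  have hIsum : ∑ a ∈ A, (I a - 1) = (Nat.card W - 1) * (Nat.card W - 1 - 1) := by
    have e1 : ∀ a ∈ A, I a - 1 = (S.filter fun u => a * u ∈ S).card := by
      intro a ha
      obtain ⟨-, ha0, -⟩ := Finset.mem_filter.1 ha
      have e2 : I a = ((Finset.univ : Finset F).filter fun u => u ∈ W ∧ a * u ∈ W).card := by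
        rw [← Fintype.card_subtype, ← Nat.card_eq_fintype_card]
        refine (Nat.card_eq_of_bijective (fun u : {u : F // u ∈ W ∧ a * u ∈ W} =>
          (⟨a * u, u.2.2, mem_scaleSub.2 ⟨u, u.2.1, rfl⟩⟩ : (W ⊓ scaleSub a W : AddSubgroup F)))
          ⟨fun x y e => Subtype.ext (mul_left_cancel₀ ha0 (congrArg Subtype.val e)), ?_⟩).symm
        rintro ⟨y, hyW, hy⟩
        obtain ⟨w, hw, rfl⟩ := mem_scaleSub.1 hy
        exact ⟨⟨w, hw, hyW⟩, rfl⟩
      rw [e2, ← Finset.card_erase_of_mem (s := Finset.univ.filter fun u => u ∈ W ∧ a * u ∈ W)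
        (a := (0 : F)) (by simp)]
      congr 1
      ext u
      simp only [hS, Finset.mem_erase, Finset.mem_filter, Finset.mem_univ, true_and, ne_eq,
        mul_eq_zero, not_or]
      tauto
    rw [Finset.sum_congr rfl e1, ← Finset.card_sigma]
    have e3 : S.offDiag.card = (Nat.card W - 1) * (Nat.card W - 1 - 1) := by
      rw [Finset.offDiag_card, hScard]
      exact (Nat.mul_sub_one _ _).symm
    rw [← e3]
    refine Finset.card_bij (fun p _ => (p.2, p.1 * p.2)) ?_ ?_ ?_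
    · rintro ⟨a, u⟩ hp
      simp only [Finset.mem_sigma, hA, Finset.mem_filter, Finset.mem_univ, true_and] at hp
      obtain ⟨⟨ha, ha'⟩, hu, hau⟩ := hp
      refine Finset.mem_offDiag.2 ⟨hu, hau, fun e => ha' ?_⟩
      have hu0 : u ≠ 0 := (Finset.mem_filter.1 hu).2.2
      have e1 : u = a * u := e
      have e' : (1 + a) * u = 0 := by rw [add_mul, one_mul, ← e1, h2]
      exact (mul_eq_zero.1 e').resolve_right hu0
    · rintro ⟨a, u⟩ hp ⟨a', u'⟩ hp' e
      simp only [Prod.mk.injEq] at e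
      obtain ⟨rfl, e2⟩ := e
      have hu0 : u ≠ 0 := by
        simp only [Finset.mem_sigma, Finset.mem_filter] at hp
        exact (Finset.mem_filter.1 hp.2.1).2.2
      obtain rfl := mul_right_cancel₀ hu0 e2
      rfl
    · rintro ⟨u, w⟩ hp
      obtain ⟨hu, hw, hne⟩ := Finset.mem_offDiag.1 hp
      have hu0 : u ≠ 0 := (Finset.mem_filter.1 hu).2.2
      have hw0 : w ≠ 0 := (Finset.mem_filter.1 hw).2.2
      refine ⟨⟨w / u, u⟩, ?_, by simp [div_mul_cancel₀ _ hu0]⟩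
      simp only [Finset.mem_sigma, hA, Finset.mem_filter, Finset.mem_univ, true_and,
        div_mul_cancel₀ _ hu0]
      refine ⟨⟨div_ne_zero hw0 hu0, fun e => hne ?_⟩, hu, hw⟩
      have : w / u = 1 := by linear_combination e - h2 1
      exact ((div_eq_one_iff_eq hu0).1 this).symm
  have hsumI : ∑ a ∈ A, I a = A.card + (Nat.card W - 1) * (Nat.card W - 1 - 1) := by
    rw [← hIsum, Finset.card_eq_sum_ones, ← Finset.sum_add_distrib]
    refine Finset.sum_congr rfl fun a _ => ?_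
    have hpos : 0 < Nat.card (W ⊓ scaleSub a W : AddSubgroup F) := Nat.card_pos
    show Nat.card (W ⊓ scaleSub a W : AddSubgroup F) =
      1 + (Nat.card (W ⊓ scaleSub a W : AddSubgroup F) - 1)
    omega
  have hsum2 : ∑ a ∈ A, I (1 + a) = ∑ a ∈ A, I a := by
    refine Finset.sum_nbij' (fun a => 1 + a) (fun a => 1 + a) ?_ ?_ ?_ ?_ ?_
    all_goals intro a ha
    · simp only [hA, Finset.mem_coe, Finset.mem_filter, Finset.mem_univ, true_and] at ha ⊢
      exact ⟨ha.2, by rw [← add_assoc, h2, zero_add]; exact ha.1⟩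
    · simp only [hA, Finset.mem_coe, Finset.mem_filter, Finset.mem_univ, true_and] at ha ⊢
      exact ⟨ha.2, by rw [← add_assoc, h2, zero_add]; exact ha.1⟩
    · simp [← add_assoc, h2]
    · simp [← add_assoc, h2]
    · rfl
  have h8 : 8 ≤ Nat.card F := by
    rw [hq]; exact Nat.pow_le_pow_right (by norm_num : 0 < 2) hn
  obtain ⟨r, hr⟩ : ∃ r, Nat.card F = Nat.card W * r := W.card_addSubgroup_dvd_card
  obtain ⟨d, -, hd⟩ := (Nat.dvd_prime_pow Nat.prime_two).1 (hq ▸ W.card_addSubgroup_dvd_card)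
  obtain ⟨e, -, he⟩ := (Nat.dvd_prime_pow Nat.prime_two).1
    (show r ∣ 2 ^ n by rw [← hq, hr]; exact dvd_mul_left _ _)
  have hr1 : 1 < r := by
    rcases Nat.lt_or_ge 1 r with h' | h'
    · exact h'
    · refine absurd ((AddSubgroup.card_eq_iff_eq_top W).1 ?_) htop
      have : r = 1 := le_antisymm h' (Nat.pos_of_ne_zero fun e => by rw [e, mul_zero] at hr; omega)
      rw [hr, this, mul_one]
  have two_or_four : ∀ {x k : ℕ}, x = 2 ^ k → 1 < x → (x : ℝ) = 2 ∨ (4 : ℝ) ≤ x := by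
    intro x k hx hx1
    rcases k with _ | _ | k
    · simp [hx] at hx1
    · left; simp [hx]
    · right
      have : 2 ^ 2 ≤ x := hx ▸ Nat.pow_le_pow_right (by norm_num) (by omega)
      exact_mod_cast this
  -- the average is too small
  have hne : A.Nonempty := Finset.card_pos.1 (by rw [hAcard]; omega)
  obtain ⟨a₀, ha₀, hmin⟩ := A.exists_min_image (fun a => I a + I (1 + a)) hne
  obtain ⟨-, ha0, ha1⟩ := Finset.mem_filter.1 ha₀
  have havg : A.card • (I a₀ + I (1 + a₀)) ≤ ∑ a ∈ A, (I a + I (1 + a)) :=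
    Finset.card_nsmul_le_sum _ _ _ hmin
  rw [smul_eq_mul, Finset.sum_add_distrib, hsum2, hsumI, hAcard] at havg
  have hbd1 : (Nat.card W : ℝ) ≤ (I a₀ : ℝ) * I (1 + a₀) := by exact_mod_cast b1 a₀ ha0 ha1
  have hbd2 : (Nat.card W : ℝ) ^ 3 ≤ (Nat.card F : ℝ) * ((I a₀ : ℝ) * I (1 + a₀)) := by
    exact_mod_cast b2 a₀ ha0 ha1
  set N : ℝ := (Nat.card W : ℝ)
  set R : ℝ := (r : ℝ)
  have hqR : (Nat.card F : ℝ) = N * R := by rw [hr, Nat.cast_mul]
  have hN2 : (2 : ℝ) ≤ (Nat.card W : ℝ) := by exact_mod_cast (show 2 ≤ Nat.card W by omega)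
  have hR2 : (2 : ℝ) ≤ (r : ℝ) := by exact_mod_cast (show 2 ≤ r by omega)
  have h8R : (8 : ℝ) ≤ N * R := by rw [← hqR]; exact_mod_cast h8
  have havg' : (N * R - 2) * ((I a₀ : ℝ) + I (1 + a₀)) ≤ 2 * (N * R - 2 + (N - 1) * (N - 1 - 1)) := by
    have : ((Nat.card F - 2 : ℕ) : ℝ) * ((I a₀ + I (1 + a₀) : ℕ) : ℝ) ≤
        (((Nat.card F - 2 + (Nat.card W - 1) * (Nat.card W - 1 - 1)) +
          (Nat.card F - 2 + (Nat.card W - 1) * (Nat.card W - 1 - 1)) : ℕ) : ℝ) := by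
      exact_mod_cast havg
    push_cast [Nat.cast_sub (show 2 ≤ Nat.card F by omega), Nat.cast_sub (show 1 ≤ Nat.card W by omega),
      Nat.cast_sub (show 1 ≤ Nat.card W - 1 by omega)] at this
    rw [hqR] at this
    linarith
  have hsq : (N * R - 2) ^ 2 * ((I a₀ : ℝ) * I (1 + a₀)) ≤
      (N * (N + R - 3)) ^ 2 := by
    have h0 : 0 ≤ (N * R - 2) * ((I a₀ : ℝ) + I (1 + a₀)) :=
      mul_nonneg (by linarith) (by positivity)
    have h1 := pow_le_pow_left₀ h0 havg' 2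
    have h2' : 4 * ((I a₀ : ℝ) * I (1 + a₀)) ≤ ((I a₀ : ℝ) + I (1 + a₀)) ^ 2 := by
      nlinarith [sq_nonneg ((I a₀ : ℝ) - I (1 + a₀))]
    have h3 := mul_le_mul_of_nonneg_left h2' (sq_nonneg (N * R - 2))
    rw [mul_pow] at h1
    nlinarith [h1, h3]
  have hsqpos : 0 ≤ (N * R - 2) ^ 2 := sq_nonneg _
  rcases le_total R N with hle | hle
  · exact absurd (avg_small_one N R ((I a₀ : ℝ) * I (1 + a₀)) (by linarith) (by linarith)
      (scale_ineq N R hR2 hle h8R (two_or_four he hr1)) (by rwa [hqR] at hbd2) hsq) id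
  · exact absurd (avg_small_two N R ((I a₀ : ℝ) * I (1 + a₀)) (by linarith)
      (scale_ineq R N hN2 hle (by linarith) (two_or_four hd hN1)) hbd1 hsq) id

end CfsgLib.Suzuki
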