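/-
Suzuki group: coset actions of subgroups meeting a Borel subgroup are not binary.
-/
import Cfsg.Agent.Suzuki.TorusCount
import Cfsg.Agent.Suzuki.Binary.Criterion
import Cfsg.Agent.Suzuki.Binary.Scalar

set_option autoImplicit false

namespace CfsgLib.Suzuki

variable {F : Type*} [Field F] {m : ℕ}

local notation "PP" => Projectivization F (Fin 4 → F)
local notation "G" => SzG F m

variable (h : IsSzField F m)
include h

theorem center_conj_borel (c p r : F) (s : Fˣ) :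
    (uE h 0 c)⁻¹ * (uE h p r * dE h s) * uE h 0 c = uE h p (r + c + lam m s * c) * dE h s := by
  have e0 : (uE h 0 c)⁻¹ = uE h 0 c := by rw [uE_inv]; congr 1; rw [sg_zero]; ring
  rw [e0, show uE h 0 c * (uE h p r * dE h s) * uE h 0 c =
    uE h 0 c * uE h p r * (dE h s * uE h 0 c) by group, dE_mul_uE, ← mul_assoc, uE_mul, uE_mul]
  congr 1
  congr 1
  · ring
  · simp only [sg_zero, lam]; ring

theorem unip_conj_borel (c p r : F) (s : Fˣ) :
    ∃ r', (uE h c 0)⁻¹ * (uE h p r * dE h s) * uE h c 0 =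
      uE h (p + c + sg m (s : F) * c) r' * dE h s := by
  have := h.charP
  rw [uE_inv, show uE h c (0 + sg m c * c) * (uE h p r * dE h s) * uE h c 0 =
    uE h c (0 + sg m c * c) * uE h p r * (dE h s * uE h c 0) by group, dE_mul_uE, ← mul_assoc,
    uE_mul, uE_mul]
  exact ⟨_, congrArg₂ (· * ·) (congrArg₂ (uE h) (by ring) rfl) rfl⟩

omit h in
theorem mult_back [Finite F] (W : AddSubgroup F) {k : F} (hk : k ≠ 0) (hW : ∀ w ∈ W, k * w ∈ W)
    {x : F} (hx : k * x ∈ W) : x ∈ W := by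
  let f : W → W := fun w => ⟨k * w, hW w w.2⟩
  have hf : Function.Injective f := fun a b e =>
    Subtype.ext (mul_left_cancel₀ hk (congrArg Subtype.val e))
  obtain ⟨w, hw⟩ := (Finite.injective_iff_surjective.1 hf) ⟨k * x, hx⟩
  rw [← mul_left_cancel₀ hk (congrArg Subtype.val hw)]
  exact w.2

theorem one_add_lam_ne_zero {s : Fˣ} (hs : s ≠ 1) : 1 + lam m s ≠ 0 := fun e =>
  hs (lam_injective h (by
    rw [show lam m (1 : Fˣ) = 1 by simp [lam]]
    linear_combination e - h.two_eq_zero))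

theorem one_add_sg_ne_zero {s : Fˣ} (hs : s ≠ 1) : 1 + sg m (s : F) ≠ 0 := fun e =>
  hs (scale_eq_one_left h one_ne_zero (by linear_combination e - h.two_eq_zero))

theorem mem_of_one_add_lam {H : Subgroup G} {p r : F} {s : Fˣ} (hg : uE h p r * dE h s ∈ H)
    (hs : s ≠ 1) {x : F} (hx : (1 + lam m s) * x ∈ centerCoords h H) : x ∈ centerCoords h H := by
  have := h.finite
  refine mult_back _ (one_add_lam_ne_zero h hs) (fun w hw => ?_) hx
  rw [add_mul, one_mul]
  exact AddSubgroup.add_mem _ hw (lam_smul_mem h ⟨p, r, hg⟩ hw)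

/-- A subgroup with a torus element missing part of the centre of `U`. -/
theorem not_binary_center {H : Subgroup G} {t₀ : Fˣ} (ht₀ : t₀ ≠ 1) (ht : dE h t₀ ∈ H) {d : F}
    (hd : d ∉ centerCoords h H)
    (hmeet : ∀ c, c ∉ centerCoords h H → ∀ g ∈ H, (uE h 0 c)⁻¹ * g * uE h 0 c ∈ H →
      g ∈ borel F m) :
    ¬ IsBinaryCosets H := by
  have := h.finite
  have := h.charP
  have hdE : ∀ s : Fˣ, uE h 0 0 * dE h s = dE h s := fun s => by rw [uE_zero, one_mul]
  have ht2 : t₀ ^ 2 ≠ 1 := fun e => by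
    have h0 : (t₀ : F) ^ 2 = 1 := by rw [← Units.val_pow_eq_pow_val, e, Units.val_one]
    exact ht₀ (Units.ext (CharTwo.sq_inj.1 (by rw [h0, Units.val_one, one_pow])))
  have hti : t₀⁻¹ ≠ 1 := inv_ne_one.2 ht₀
  have h1 : dE h t₀⁻¹ ∈ H := by rw [map_inv]; exact H.inv_mem ht
  have h2 : dE h (t₀ ^ 2) ∈ H := by rw [map_pow]; exact H.pow_mem ht 2
  set k := lam m t₀⁻¹ * (1 + lam m (t₀ ^ 2)) with hk
  set c := k * d / (1 + lam m t₀⁻¹) with hcdef
  have hce : (1 + lam m t₀⁻¹) * c = k * d := mul_div_cancel₀ _ (one_add_lam_ne_zero h hti)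
  have hl1 : ∀ w ∈ centerCoords h H, lam m t₀⁻¹ * w ∈ centerCoords h H := fun w hw =>
    lam_smul_mem h ⟨0, 0, by rw [hdE]; exact h1⟩ hw
  have hl2 : ∀ w ∈ centerCoords h H, lam m (t₀ ^ 2) * w ∈ centerCoords h H := fun w hw =>
    lam_smul_mem h ⟨0, 0, by rw [hdE]; exact h2⟩ hw
  have hc : c ∉ centerCoords h H := by
    intro hc
    refine hd (mult_back (centerCoords h H) (k := k)
      (mul_ne_zero (lam_ne_zero _) (one_add_lam_ne_zero h ht2)) (fun w hw => ?_) ?_)
    · rw [hk, mul_assoc, add_mul, one_mul]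
      exact hl1 _ (AddSubgroup.add_mem _ hw (hl2 w hw))
    · rw [← hce, add_mul, one_mul]
      exact AddSubgroup.add_mem _ hc (hl1 c hc)
  have conjE : ∀ (e : F) (s : Fˣ),
      (uE h 0 e)⁻¹ * dE h s * uE h 0 e = uE h 0 ((1 + lam m s) * e) * dE h s := fun e s => by
    rw [← hdE s, center_conj_borel h, hdE s]
    congr 2
    ring
  refine not_binary_of_triple (x := uE h 0 c) (y := uE h 0 d) (z := dE h t₀)
    (a := uE h 0 ((1 + lam m t₀⁻¹) * c) * dE h t₀⁻¹) ht ?_ ?_ ?_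
  · rw [center_conj_borel h, show (1 + lam m t₀⁻¹) * c + c + lam m t₀⁻¹ * c = 0 by
      linear_combination ((1 + lam m t₀⁻¹) * c) * h.two_eq_zero, hdE]
    exact h1
  · have e : uE h 0 ((1 + lam m t₀⁻¹) * c) * dE h t₀⁻¹ *
        (uE h 0 ((1 + lam m (t₀ ^ 2)) * d) * dE h (t₀ ^ 2)) = dE h t₀ := by
      rw [show uE h 0 ((1 + lam m t₀⁻¹) * c) * dE h t₀⁻¹ *
        (uE h 0 ((1 + lam m (t₀ ^ 2)) * d) * dE h (t₀ ^ 2)) =
        uE h 0 ((1 + lam m t₀⁻¹) * c) * (dE h t₀⁻¹ * uE h 0 ((1 + lam m (t₀ ^ 2)) * d)) *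
          dE h (t₀ ^ 2) by group, dE_mul_uE, ← mul_assoc, uE_mul, mul_assoc, ← map_mul,
        show t₀⁻¹ * t₀ ^ 2 = t₀ by rw [sq, inv_mul_cancel_left]]
      conv_rhs => rw [← hdE t₀]
      congr 2
      · ring
      · rw [sg_zero, zero_mul, add_zero, hce, hk]
        simp only [lam]
        linear_combination
          (sg m ((t₀⁻¹ : Fˣ) : F) * ((t₀⁻¹ : Fˣ) : F) ^ 2 *
            (1 + sg m ((t₀ ^ 2 : Fˣ) : F) * ((t₀ ^ 2 : Fˣ) : F) ^ 2) * d) * h.two_eq_zero
    rw [show (uE h 0 ((1 + lam m t₀⁻¹) * c) * dE h t₀⁻¹)⁻¹ * dE h t₀ =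
      uE h 0 ((1 + lam m (t₀ ^ 2)) * d) * dE h (t₀ ^ 2) by rw [inv_mul_eq_iff_eq_mul, e],
      center_conj_borel h, show (1 + lam m (t₀ ^ 2)) * d + d + lam m (t₀ ^ 2) * d = 0 by
        linear_combination ((1 + lam m (t₀ ^ 2)) * d) * h.two_eq_zero, hdE]
    exact h2
  · intro g hg hgx hgy
    obtain ⟨p, r, s, rfl⟩ := (mem_stab_inf h).1 (hmeet c hc g hg hgx)
    have hs : s = 1 := by
      by_contra hs
      refine hc (mem_of_one_add_lam h hg hs ?_)
      show uE h 0 _ ∈ H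
      rw [center_conj_borel h] at hgx
      have e := H.mul_mem hgx (H.inv_mem hg)
      rw [show uE h p (r + c + lam m s * c) * dE h s * (uE h p r * dE h s)⁻¹ =
        uE h p (r + c + lam m s * c) * (uE h p r)⁻¹ by group, uE_inv, uE_mul] at e
      convert e using 2
      · linear_combination -p * h.two_eq_zero
      · linear_combination -(r + sg m p * p) * h.two_eq_zero
    subst hs
    rw [map_one, mul_one] at hg hgy
    have hgc : uE h p r * uE h 0 d = uE h 0 d * uE h p r := by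
      rw [uE_mul, uE_mul]
      congr 1 <;> simp [add_comm]
    have hy : (uE h 0 d)⁻¹ * dE h t₀ * uE h 0 d ∈ H := by
      have e : (uE h 0 d)⁻¹ * (uE h p r)⁻¹ = (uE h p r)⁻¹ * (uE h 0 d)⁻¹ := by
        rw [← mul_inv_rev, ← mul_inv_rev, hgc]
      have e' := H.mul_mem hg hgy
      rw [← mul_assoc (uE h 0 d)⁻¹, e] at e'
      convert e' using 1
      group
    rw [conjE] at hy
    have e := H.mul_mem hy (H.inv_mem ht)
    rw [mul_inv_cancel_right] at e
    exact hd (mem_of_one_add_lam h (p := 0) (r := 0) (by rw [hdE]; exact ht) ht₀ e)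

/-- A subgroup of a Borel subgroup with a torus element, containing the centre of `U`. -/
theorem not_binary_above_center {H : Subgroup G} (hB : H ≤ borel F m) {t₀ : Fˣ} (ht₀ : t₀ ≠ 1)
    (ht : dE h t₀ ∈ H) (hZ : ∀ b, uE h 0 b ∈ H) {d : F} (hd : uE h d 0 ∉ H) :
    ¬ IsBinaryCosets H := by
  have := h.finite
  have := h.charP
  have hfst : ∀ a b, uE h a b ∈ H ↔ uE h a 0 ∈ H := fun a b => by
    constructor <;> intro hh
    · have := H.mul_mem hh (hZ b)
      rw [uE_mul] at this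
      simpa [CharTwo.add_self_eq_zero] using this
    · have := H.mul_mem hh (hZ b)
      rw [uE_mul] at this
      simpa using this
  let W : AddSubgroup F :=
    { carrier := {a | uE h a 0 ∈ H}
      zero_mem' := by show uE h 0 0 ∈ H; rw [uE_zero]; exact H.one_mem
      add_mem' := fun {a b} ha hb => by
        show uE h (a + b) 0 ∈ H
        have := H.mul_mem ha hb
        rw [uE_mul] at this
        exact (hfst _ _).1 this
      neg_mem' := fun {a} ha => by show uE h (-a) 0 ∈ H; rw [CharTwo.neg_eq]; exact ha }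
  have hW : ∀ {p r : F} {s : Fˣ}, uE h p r * dE h s ∈ H → ∀ w ∈ W, sg m (s : F) * w ∈ W := by
    intro p r s hg w hw
    have e : uE h p r * dE h s * uE h w 0 * (uE h p r * dE h s)⁻¹ =
        uE h p r * (dE h s * uE h w 0 * (dE h s)⁻¹) * (uE h p r)⁻¹ := by group
    rw [dE_conj, uE_conj] at e
    have hm := H.mul_mem (H.mul_mem hg hw) (H.inv_mem hg)
    rw [e] at hm
    exact (hfst _ _).1 hm
  have back : ∀ {p r : F} {s : Fˣ}, uE h p r * dE h s ∈ H → s ≠ 1 →
      ∀ x, (1 + sg m (s : F)) * x ∈ W → x ∈ W := by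
    intro p r s hg hs x hx
    refine mult_back W (one_add_sg_ne_zero h hs) (fun w hw => ?_) hx
    rw [add_mul, one_mul]
    exact W.add_mem hw (hW hg w hw)
  have hdE : ∀ s : Fˣ, uE h 0 0 * dE h s = dE h s := fun s => by rw [uE_zero, one_mul]
  have ht2 : t₀ ^ 2 ≠ 1 := fun e => by
    have h0 : (t₀ : F) ^ 2 = 1 := by rw [← Units.val_pow_eq_pow_val, e, Units.val_one]
    exact ht₀ (Units.ext (CharTwo.sq_inj.1 (by rw [h0, Units.val_one, one_pow])))
  have hti : t₀⁻¹ ≠ 1 := inv_ne_one.2 ht₀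
  have h1 : dE h t₀⁻¹ ∈ H := by rw [map_inv]; exact H.inv_mem ht
  have h2 : dE h (t₀ ^ 2) ∈ H := by rw [map_pow]; exact H.pow_mem ht 2
  set k := sg m ((t₀⁻¹ : Fˣ) : F) * (1 + sg m ((t₀ ^ 2 : Fˣ) : F)) with hk
  set c := k * d / (1 + sg m ((t₀⁻¹ : Fˣ) : F)) with hcdef
  have hce : (1 + sg m ((t₀⁻¹ : Fˣ) : F)) * c = k * d :=
    mul_div_cancel₀ _ (one_add_sg_ne_zero h hti)
  have hl1 := hW (p := 0) (r := 0) (s := t₀⁻¹) (by rw [hdE]; exact h1)
  have hl2 := hW (p := 0) (r := 0) (s := t₀ ^ 2) (by rw [hdE]; exact h2)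
  have hc : c ∉ W := by
    intro hc
    refine hd (mult_back W (k := k)
      (mul_ne_zero (sg_ne_zero (Units.ne_zero _)) (one_add_sg_ne_zero h ht2)) (fun w hw => ?_) ?_)
    · rw [hk, mul_assoc, add_mul, one_mul]
      exact hl1 _ (W.add_mem hw (hl2 w hw))
    · rw [← hce, add_mul, one_mul]
      exact W.add_mem hc (hl1 c hc)
  -- conjugates of torus elements
  have conj' : ∀ (e : F) (s : Fˣ),
      ∃ r, uE h e 0 * dE h s * (uE h e 0)⁻¹ = uE h ((1 + sg m (s : F)) * e) r * dE h s := by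
    intro e s
    refine ⟨0 + sg m (s : F) * (s : F) ^ 2 * (0 + sg m e * e) + sg m e * (sg m (s : F) * e), ?_⟩
    rw [uE_inv, show uE h e 0 * dE h s * uE h e (0 + sg m e * e) =
      uE h e 0 * (dE h s * uE h e (0 + sg m e * e)) by group, dE_mul_uE, ← mul_assoc, uE_mul]
    congr 2
    ring
  obtain ⟨r1, e1⟩ := conj' c t₀⁻¹
  obtain ⟨r2, e2⟩ := conj' d (t₀ ^ 2)
  have hprod : ∃ r, uE h c 0 * dE h t₀⁻¹ * (uE h c 0)⁻¹ *
      (uE h d 0 * dE h (t₀ ^ 2) * (uE h d 0)⁻¹) = uE h 0 r * dE h t₀ := by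
    rw [e1, e2, show uE h ((1 + sg m ((t₀⁻¹ : Fˣ) : F)) * c) r1 * dE h t₀⁻¹ *
        (uE h ((1 + sg m ((t₀ ^ 2 : Fˣ) : F)) * d) r2 * dE h (t₀ ^ 2)) =
      uE h ((1 + sg m ((t₀⁻¹ : Fˣ) : F)) * c) r1 *
        (dE h t₀⁻¹ * uE h ((1 + sg m ((t₀ ^ 2 : Fˣ) : F)) * d) r2) * dE h (t₀ ^ 2) by group,
      dE_mul_uE, ← mul_assoc, uE_mul, mul_assoc, ← map_mul,
      show t₀⁻¹ * t₀ ^ 2 = t₀ by rw [sq, inv_mul_cancel_left]]
    refine ⟨_, congrArg₂ (· * ·) (congrArg₂ (uE h) ?_ rfl) rfl⟩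
    rw [hce, hk]
    linear_combination (sg m ((t₀⁻¹ : Fˣ) : F) * (1 + sg m ((t₀ ^ 2 : Fˣ) : F)) * d) * h.two_eq_zero
  obtain ⟨r, hr⟩ := hprod
  have hz : uE h 0 r * dE h t₀ ∈ H := H.mul_mem (hZ r) ht
  refine not_binary_of_triple (x := uE h c 0) (y := uE h d 0) (z := uE h 0 r * dE h t₀)
    (a := uE h c 0 * dE h t₀⁻¹ * (uE h c 0)⁻¹) hz ?_ ?_ ?_
  · rw [show (uE h c 0)⁻¹ * (uE h c 0 * dE h t₀⁻¹ * (uE h c 0)⁻¹) * uE h c 0 = dE h t₀⁻¹ by group]
    exact h1
  · rw [← hr, show (uE h d 0)⁻¹ * ((uE h c 0 * dE h t₀⁻¹ * (uE h c 0)⁻¹)⁻¹ *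
      (uE h c 0 * dE h t₀⁻¹ * (uE h c 0)⁻¹ * (uE h d 0 * dE h (t₀ ^ 2) * (uE h d 0)⁻¹))) *
      uE h d 0 = dE h (t₀ ^ 2) by group]
    exact h2
  · intro g hg hgx hgy
    obtain ⟨p, q, s, rfl⟩ := (mem_stab_inf h).1 (hB hg)
    have hs : s = 1 := by
      by_contra hs
      refine hc (back hg hs c ?_)
      obtain ⟨q', e⟩ := unip_conj_borel h c p q s
      rw [e] at hgx
      have e' := H.mul_mem hgx (H.inv_mem hg)
      rw [show uE h (p + c + sg m (s : F) * c) q' * dE h s * (uE h p q * dE h s)⁻¹ =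
        uE h (p + c + sg m (s : F) * c) q' * (uE h p q)⁻¹ by group, uE_inv, uE_mul] at e'
      show uE h _ 0 ∈ H
      have e'' := (hfst _ _).1 e'
      convert e'' using 2
      linear_combination -p * h.two_eq_zero
    subst hs
    rw [map_one, mul_one] at hg hgy
    have hgd : (uE h d 0)⁻¹ * uE h p q * uE h d 0 ∈ H := by
      obtain ⟨q', e⟩ := unip_conj_borel h d p q 1
      rw [map_one, mul_one, mul_one] at e
      rw [e]
      refine (hfst _ _).2 ?_
      have hp : uE h p 0 ∈ H := (hfst _ _).1 hg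
      convert hp using 2
      rw [Units.val_one, sg_one]
      linear_combination d * h.two_eq_zero
    have hy : (uE h d 0)⁻¹ * (uE h 0 r * dE h t₀) * uE h d 0 ∈ H := by
      have e := H.mul_mem hgd hgy
      convert e using 1
      group
    obtain ⟨q', e⟩ := unip_conj_borel h d 0 r t₀
    rw [e] at hy
    have e' := H.mul_mem hy (H.inv_mem ht)
    rw [mul_inv_cancel_right] at e'
    refine hd (back (p := 0) (r := 0) (by rw [hdE]; exact ht) ht₀ d ?_)
    show uE h _ 0 ∈ H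
    convert (hfst _ _).1 e' using 2
    ring

/-- Proper nonzero parts of the centre of `U`. -/
theorem not_binary_elementary {H : Subgroup G} (hH : ∀ g ∈ H, ∃ b, g = uE h 0 b)
    (hbot : H ≠ ⊥) {d : F} (hd : d ∉ centerCoords h H) : ¬ IsBinaryCosets H := by
  have := h.finite
  have := h.charP
  have hWbot : centerCoords h H ≠ ⊥ := by
    intro e
    refine hbot ((Subgroup.eq_bot_iff_forall _).2 fun g hg => ?_)
    obtain ⟨b, rfl⟩ := hH g hg
    have : b ∈ centerCoords h H := hg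
    rw [e, AddSubgroup.mem_bot] at this
    rw [this, uE_zero]
  obtain ⟨a, b, w, u, v, ha, hb, hw, hu, hv, e, hno⟩ :=
    exists_scalar_triple (n := 2 * m + 1) h.card (by have := h.pos; omega) (centerCoords h H) hWbot
      (fun e => hd (by rw [e]; exact AddSubgroup.mem_top d))
  obtain ⟨s, hs⟩ := exists_lam_eq h ha
  obtain ⟨t, ht⟩ := exists_lam_eq h hb
  have hconj : ∀ (s : Fˣ) (x : F),
      dE h s * uE h 0 x * (dE h s)⁻¹ = uE h 0 (lam m s * x) := fun s x => by
    rw [dE_conj, mul_zero]; rfl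
  have hback : ∀ (s : Fˣ) (x : F), (dE h s)⁻¹ * uE h 0 x * dE h s ∈ H →
      x ∈ scaleSub (lam m s) (centerCoords h H) := by
    intro s x hx
    obtain ⟨y, hy⟩ := hH _ hx
    refine mem_scaleSub.2 ⟨y, by show uE h 0 y ∈ H; rwa [← hy], ?_⟩
    have e1 : uE h 0 x = uE h 0 (lam m s * y) := by rw [← hconj, ← hy]; group
    exact (uE_inj h e1).2.symm
  refine not_binary_of_triple (x := dE h s) (y := dE h t) (z := uE h 0 w) (a := uE h 0 (a * u))
    hw ?_ ?_ ?_
  · rw [← hs, ← hconj, show (dE h s)⁻¹ * (dE h s * uE h 0 u * (dE h s)⁻¹) * dE h s = uE h 0 u by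
      group]
    exact hu
  · rw [show (uE h 0 (a * u))⁻¹ * uE h 0 w = uE h 0 (b * v) by
      rw [inv_mul_eq_iff_eq_mul, uE_mul, e]; congr 1 <;> simp, ← ht, ← hconj,
      show (dE h t)⁻¹ * (dE h t * uE h 0 v * (dE h t)⁻¹) * dE h t = uE h 0 v by group]
    exact hv
  · intro g hg hgx hgy
    obtain ⟨c, rfl⟩ := hH g hg
    have e1 : (uE h 0 c)⁻¹ * uE h 0 w = uE h 0 (w - c) := by
      rw [inv_mul_eq_iff_eq_mul, uE_mul]
      congr 1 <;> simp
    rw [e1] at hgy
    exact hno c hg (hs ▸ hback s c hgx) (ht ▸ hback t _ hgy)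

/-- Subgroups between `U` and its normaliser. -/
theorem not_binary_above_unip {H : Subgroup G} (hU : unip h ≤ H) (hB : H ≤ borel F m) :
    ¬ IsBinaryCosets H := by
  classical
  have := h.finite
  have := finite_G h
  let S : Subgroup Fˣ := H.comap (dE h)
  let f : Bool × (Fˣ ⧸ S) → MulAction.orbitRel.Quotient H (G ⧸ H) := fun p =>
    Quotient.mk'' (((if p.1 then wE h else 1) * dE h p.2.out : G) : G ⧸ H)
  have hf : Function.Surjective f := by
    intro o
    induction o using Quotient.inductionOn' with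
    | h q =>
    induction q using QuotientGroup.induction_on with
    | H g =>
    have key : ∀ (i : Bool) (a b c d : F) (t : Fˣ),
        g = uE h a b * (if i then wE h else 1) * uE h c d * dE h t →
        f (i, (t : Fˣ ⧸ S)) = Quotient.mk'' ((g : G) : G ⧸ H) := by
      intro i a b c d t e
      obtain ⟨⟨σ, hσ⟩, hout⟩ := QuotientGroup.mk_out_eq_mul S t
      refine Quotient.eq''.2 (MulAction.orbitRel_apply.2 ⟨⟨(uE h a b)⁻¹,
        H.inv_mem (hU (uE_mem h a b))⟩, ?_⟩)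
      show ((uE h a b)⁻¹ * g : G) = ((_ : G) : G ⧸ H)
      simp only [hout]
      rw [QuotientGroup.eq, e, map_mul]
      have hmem : (dE h t)⁻¹ * (uE h c d)⁻¹ * dE h t ∈ H := by
        have := hU ((Subgroup.mem_normalizer_iff''.1 (borel_le_normalizer h
          ((mem_stab_inf h).2 ⟨0, 0, t, by rw [uE_zero, one_mul]⟩)) _).1
            ((unip h).inv_mem (uE_mem h c d)))
        exact this
      have := H.mul_mem hmem (show dE h σ ∈ H from hσ)
      convert this using 1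
      group
    rcases decomp h g with ⟨a, b, t, e⟩ | ⟨a, b, c, d, t, e⟩
    · exact ⟨_, key false a b 0 0 t (by simp [e, uE_zero])⟩
    · exact ⟨_, key true a b c d t (by simp [e])⟩
  have hN : Nat.card (MulAction.orbitRel.Quotient H (G ⧸ H)) ≤ 2 * S.index := by
    refine (Nat.card_le_card_of_surjective f hf).trans (le_of_eq ?_)
    rw [Nat.card_prod, Nat.card_eq_fintype_card, Fintype.card_bool, Subgroup.index]
  have hk : Nat.card {c : G // c ∈ H ∧ (wE h)⁻¹ * c * wE h ∈ H} ≤ Nat.card S := by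
    have hfix : ∀ c : {c : G // c ∈ H ∧ (wE h)⁻¹ * c * wE h ∈ H}, ∃ t : S, dE h t = (c : G) := by
      rintro ⟨c, hc, hc'⟩
      have h1 : c • inf F = inf F := hB hc
      have h2 : ((wE h)⁻¹ * c * wE h) • inf F = inf F := hB hc'
      rw [mul_smul, mul_smul, wE_smul_inf, inv_smul_eq_iff, wE_smul_inf] at h2
      obtain ⟨t, ht⟩ := (mem_torus_iff h).2 ⟨h1, h2⟩
      exact ⟨⟨t, show dE h t ∈ H from ht ▸ hc⟩, ht⟩
    choose τ hτ using hfix
    exact Nat.card_le_card_of_injective τ fun c c' e => Subtype.ext (by rw [← hτ c, ← hτ c', e])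
  have hH : Nat.card H ≤ Nat.card F ^ 2 * Nat.card S := by
    have hdec : ∀ g : H, ∃ p : unip h × S, (p.1 : G) * dE h p.2 = g := by
      rintro ⟨g, hg⟩
      obtain ⟨a, b, t, rfl⟩ := (mem_stab_inf h).1 (hB hg)
      refine ⟨⟨⟨_, uE_mem h a b⟩, ⟨t, show dE h t ∈ H from ?_⟩⟩, rfl⟩
      have := H.mul_mem (H.inv_mem (hU (uE_mem h a b))) hg
      rwa [inv_mul_cancel_left] at this
    choose τ hτ using hdec
    refine (Nat.card_le_card_of_injective τ fun g g' e => Subtype.ext (by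
      rw [← hτ g, ← hτ g', e])).trans (le_of_eq ?_)
    rw [Nat.card_prod, card_unip]
  refine not_binary_of_orbits (wE h) hN hk ?_
  have hG := H.index_mul_card
  rw [card_Sz h] at hG
  have hS : S.index * Nat.card S = Nat.card F - 1 := by rw [S.index_mul_card, Nat.card_units]
  have hq : 8 ≤ Nat.card F := by
    rw [h.card]; exact Nat.pow_le_pow_right (by norm_num : 0 < 2)
      (show 3 ≤ 2 * m + 1 by have := h.pos; omega)
  have h1 : Nat.card F ^ 2 * (Nat.card F ^ 2 + 1) * (Nat.card F - 1) ≤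
      H.index * (Nat.card F ^ 2 * Nat.card S) := by
    rw [← hG]; exact Nat.mul_le_mul_left _ hH
  have hSpos : 0 < Nat.card S := Nat.card_pos
  have hIpos : 0 < S.index := Nat.pos_of_ne_zero Subgroup.index_ne_zero_of_finite
  by_contra hno
  rw [not_lt] at hno
  have h2 := h1.trans (Nat.mul_le_mul_right _ hno)
  rw [← hS] at h2
  have e : 2 * S.index * (2 * S.index) * Nat.card S * (Nat.card F ^ 2 * Nat.card S) =
      4 * (S.index * Nat.card S) * (Nat.card F ^ 2 * (S.index * Nat.card S)) := by ring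
  rw [e, hS, show Nat.card F ^ 2 * (Nat.card F ^ 2 + 1) * (Nat.card F - 1) =
    (Nat.card F ^ 2 + 1) * (Nat.card F ^ 2 * (Nat.card F - 1)) by ring] at h2
  have h3 := Nat.le_of_mul_le_mul_right h2 (Nat.mul_pos (by positivity) (by omega))
  have h4 : 4 * (Nat.card F - 1) < Nat.card F ^ 2 + 1 := by
    have : 4 * Nat.card F ≤ Nat.card F ^ 2 := by
      rw [sq]; exact Nat.mul_le_mul_right _ (by omega)
    omega
  omega

end CfsgLib.Suzuki
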