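/-
Suzuki group: torus normalisers and subfield subgroups do not give binary coset actions.
-/
import Cfsg.Agent.Suzuki.Binary.Borel
import Cfsg.Agent.Suzuki.Solubilizer
import Cfsg.Agent.Suzuki.Maximals
import Cfsg.Agent.Suzuki.Fixity
import Cfsg.Agent.Suzuki.Automorphisms

set_option autoImplicit false

namespace CfsgLib.Suzuki

variable {F : Type*} [Field F] {m : ℕ}

local notation "G" => SzG F m

variable (h : IsSzField F m)
include h

/-- Subfield subgroups. -/
theorem not_binary_subfield {K : Type*} [Field K] {k : ℕ} (φ : K →+* F) (hK : IsSzField K k)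
    (hdiv : 2 * k + 1 ∣ 2 * m + 1) (hlt : k < m) :
    ¬ IsBinaryCosets (szMap φ hK hdiv h).range := by
  have := h.finite
  have := hK.finite
  set H := (szMap φ hK hdiv h).range with hH
  obtain ⟨s₀, hs₀⟩ : ∃ s : Kˣ, s ≠ 1 := exists_unit_ne_one hK
  set t₀ := Units.map φ.toMonoidHom s₀ with ht₀def
  have ht₀ : t₀ ≠ 1 := fun e => hs₀ (Units.ext (φ.injective (by
    have := congrArg Units.val e
    simpa [ht₀def] using this)))
  have ht : dE h t₀ ∈ H := ⟨dE hK s₀, szMap_dE φ hK hdiv h s₀⟩
  have hcc : ∀ b, b ∈ centerCoords h H → b ∈ Set.range φ := by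
    intro b hb
    obtain ⟨g, hg⟩ := hb
    have hg2 : g * g = 1 := szMap_injective φ hK hdiv h (by
      rw [map_mul, map_one, hg, uE_sq]; simp [uE_zero])
    by_cases hg1 : g = 1
    · rw [hg1, map_one] at hg
      exact ⟨0, by rw [map_zero]; exact ((uE_eq_one h).1 hg.symm).2.symm⟩
    obtain ⟨p, q, e⟩ : ∃ p q, g = uE hK p q := by
      have hgb : g ∈ borel K k := by
        rcases decomp hK g with ⟨p, q, s, e⟩ | ⟨p, q, r, o, s, e⟩
        · exact (mem_stab_inf hK).2 ⟨p, q, s, e⟩
        · exfalso
          have hb' : uE h 0 b • inf F = inf F := uE_smul_inf h 0 b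
          rw [← hg, e] at hb'
          simp only [map_mul, szMap_uE, szMap_dE, szMap_wE, mul_smul] at hb'
          rw [((mem_torus_iff h).1 ⟨Units.map φ.toMonoidHom s, rfl⟩).1, uE_smul_inf, wE_smul_inf,
            uE_smul_pt] at hb'
          exact (pt_ne_inf _ _) hb'
      obtain ⟨p, q, s, e⟩ := (mem_stab_inf hK).1 hgb
      rw [e, map_mul, szMap_uE, szMap_dE] at hg
      have hs : s = 1 := by
        have e' : uE h (φ p) (φ q) * dE h (Units.map φ.toMonoidHom s) = uE h 0 b * dE h 1 :=
          hg.trans (by rw [map_one, mul_one])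
        obtain ⟨-, -, es⟩ := uE_dE_inj h e'
        refine Units.ext (φ.injective ?_)
        rw [Units.val_one, map_one]
        exact congrArg Units.val es
      exact ⟨p, q, by rw [e, hs, map_one, mul_one]⟩
    rw [e, szMap_uE] at hg
    exact ⟨q, (uE_inj h hg).2⟩
  obtain ⟨d, hd⟩ : ∃ d : F, d ∉ Set.range φ := by
    by_contra hc
    simp only [not_exists, not_not] at hc
    have e : Nat.card F ≤ Nat.card K := Nat.card_le_card_of_surjective φ hc
    rw [h.card, hK.card] at e
    have := (Nat.pow_le_pow_iff_right (by norm_num : 1 < 2)).1 e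
    omega
  refine not_binary_center h ht₀ ht (d := d) (fun hh => hd (hcc d hh)) ?_
  intro c hc g hg hgx
  by_contra hgB
  set x := uE h 0 c with hx
  let M : Subgroup (SzG K k) :=
    (H.map (MulAut.conj x).toMonoidHom).comap (szMap φ hK hdiv h)
  have hmem : ∀ y : SzG K k, y ∈ M ↔ x⁻¹ * szMap φ hK hdiv h y * x ∈ H := fun y => by
    show szMap φ hK hdiv h y ∈ conjBy x H ↔ _
    exact mem_conjBy
  have hU : unip hK ≤ M := by
    intro y hy
    obtain ⟨p, q, rfl⟩ := exists_uE hK hy
    rw [hmem, szMap_uE, hx]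
    have e := center_conj_borel h c (φ p) (φ q) 1
    rw [map_one, mul_one, mul_one] at e
    rw [e]
    refine ⟨uE hK p q, ?_⟩
    rw [szMap_uE]
    congr 1
    simp only [lam, Units.val_one, sg_one]
    linear_combination -c * h.two_eq_zero
  obtain ⟨g', rfl⟩ := hg
  have hgM : g' ∈ M := (hmem g').2 hgx
  have hMtop : M = ⊤ := by
    by_contra hne
    refine hgB ?_
    have hb : g' ∈ borel K k := le_borel_of_unip_le hK hU hne hgM
    obtain ⟨p, q, s, rfl⟩ := (mem_stab_inf hK).1 hb
    rw [map_mul, szMap_uE, szMap_dE]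
    exact (mem_stab_inf h).2 ⟨_, _, _, rfl⟩
  have hs : x⁻¹ * dE h t₀ * x ∈ H := by
    have := (hmem (dE hK s₀)).1 (by rw [hMtop]; exact Subgroup.mem_top _)
    rwa [szMap_dE] at this
  rw [hx, show dE h t₀ = uE h 0 0 * dE h t₀ by rw [uE_zero, one_mul], center_conj_borel h] at hs
  refine hc (mem_of_one_add_lam h (p := 0) (r := 0) (by rw [uE_zero, one_mul]; exact ht) ht₀ ?_)
  have e := H.mul_mem hs (H.inv_mem ht)
  rw [mul_inv_cancel_right] at e
  show uE h 0 _ ∈ H
  convert e using 2
  ring

theorem IsTorus.involution_mul_mem {B : Subgroup G} (hB : IsTorus B) {i j : G} (hi : orderOf i = 2)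
    (hj : orderOf j = 2) (hiN : i ∈ Subgroup.normalizer (B : Set G))
    (hjN : j ∈ Subgroup.normalizer (B : Set G)) : i * j ∈ B := by
  obtain ⟨z, hz, hz1⟩ := hB.exists_ne_one h
  have hi2 : i * i = 1 := by rw [← sq, ← hi]; exact pow_orderOf_eq_one i
  have hj2 : j * j = 1 := by rw [← sq, ← hj]; exact pow_orderOf_eq_one j
  refine hB.mem_of_commute h hz hz1 (mul_inv_eq_iff_eq_mul.1 ?_)
  calc i * j * z * (i * j)⁻¹ = i * (j * z * j⁻¹) * i⁻¹ := by group
    _ = z := by
      rw [hB.invert h hjN (hB.not_mem_of_two_dvd h (by rw [hj])) hj2 hz,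
        hB.invert h hiN (hB.not_mem_of_two_dvd h (by rw [hi])) hi2 (B.inv_mem hz), inv_inv]

theorem IsTorus.eq_of_commute_involutions {B : Subgroup G} (hB : IsTorus B) {i j : G}
    (hi : orderOf i = 2) (hj : orderOf j = 2) (hiN : i ∈ Subgroup.normalizer (B : Set G))
    (hjN : j ∈ Subgroup.normalizer (B : Set G)) (e : i * j = j * i) : i = j := by
  have hm := hB.involution_mul_mem h hi hj hiN hjN
  have hi2 : i * i = 1 := by rw [← sq, ← hi]; exact pow_orderOf_eq_one i
  have hj2 : j * j = 1 := by rw [← sq, ← hj]; exact pow_orderOf_eq_one j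
  have h2 : (i * j) ^ 2 = 1 := by
    rw [sq, show i * j * (i * j) = i * (j * i) * j by group, ← e,
      show i * (i * j) * j = (i * i) * (j * j) by group, hi2, hj2, one_mul]
  have h1 : orderOf (i * j) ∣ 2 := orderOf_dvd_of_pow_eq_one h2
  have h3 : i * j = 1 := by
    rcases (Nat.dvd_prime Nat.prime_two).1 h1 with e' | e'
    · exact orderOf_eq_one_iff.1 e'
    · exact absurd (e' ▸ Subgroup.orderOf_dvd_natCard B hm) (hB.odd_card h)
  calc i = i * (j * j) := by rw [hj2, mul_one]
    _ = j := by rw [← mul_assoc, h3, one_mul]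

theorem mem_normalizer_conjBy {A : Subgroup G} {x g : G}
    (hg : g ∈ Subgroup.normalizer (A : Set G)) :
    x * g * x⁻¹ ∈ Subgroup.normalizer ((conjBy x A : Subgroup G) : Set G) := by
  refine Subgroup.mem_normalizer_iff.2 fun y => ?_
  rw [mem_conjBy, mem_conjBy]
  rw [show x⁻¹ * (x * g * x⁻¹ * y * (x * g * x⁻¹)⁻¹) * x = g * (x⁻¹ * y * x) * g⁻¹ by group]
  exact Subgroup.mem_normalizer_iff.1 hg _

/-- Subgroups of even order in a torus normaliser. -/
theorem not_binary_normalizer {A : Subgroup G} (hA : IsTorus A) {H : Subgroup G}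
    (hH : H ≤ Subgroup.normalizer (A : Set G)) {t : G} (ht : t ∈ H) (hto : orderOf t = 2) :
    ¬ IsBinaryCosets H := by
  classical
  have := h.finite
  have := finite_G h
  have := h.charP
  -- move `t` to standard position
  obtain ⟨c₀, hc₀⟩ := involution_to_std h (g := t) (fun e => by rw [e, orderOf_one] at hto; omega)
    (by rw [← sq, ← hto]; exact pow_orderOf_eq_one t)
  intro hbin
  replace hbin : IsBinaryCosets (conjBy c₀ H) := (isBinaryCosets_map_conj_iff c₀).2 hbin
  have hA' : IsTorus (conjBy c₀ A) :=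
    ⟨(A.equivMapOfInjective _ (MulAut.conj c₀).injective).isCyclic.1 hA.1,
      by rw [Subgroup.card_map_of_injective (MulAut.conj _).injective]; exact hA.2⟩
  have hH' : conjBy c₀ H ≤ Subgroup.normalizer ((conjBy c₀ A : Subgroup G) : Set G) := by
    intro g hg
    rw [mem_conjBy] at hg
    have := mem_normalizer_conjBy h (x := c₀) (hH hg)
    rwa [show c₀ * (c₀⁻¹ * g * c₀) * c₀⁻¹ = g by group] at this
  have htmem : uE h 0 1 ∈ conjBy c₀ H := by
    rw [← hc₀, mem_conjBy, show c₀⁻¹ * (c₀ * t * c₀⁻¹) * c₀ = t by group]; exact ht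
  revert hbin hA' hH' htmem
  generalize conjBy c₀ H = H'
  generalize conjBy c₀ A = A'
  intro hbin hA hH ht
  -- the three commuting involutions
  obtain ⟨l, hl0, hl1⟩ : ∃ l : F, l ≠ 0 ∧ 1 + l ≠ 0 := by
    obtain ⟨s, hs⟩ := exists_unit_ne_one h
    exact ⟨s, s.ne_zero, fun e => hs (Units.ext (by
      rw [Units.val_one]; linear_combination e - h.two_eq_zero))⟩
  set a := uE h 0 l with ha
  have hao : orderOf a = 2 := orderOf_uE_two h hl0
  have hto : orderOf (uE h (0 : F) 1) = 2 := orderOf_uE_two h one_ne_zero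
  have hcomm : ∀ u v : F, uE h 0 u * uE h 0 v = uE h 0 v * uE h 0 u := fun u v => by
    rw [uE_mul, uE_mul, add_comm u v]
  have hat : a ≠ uE h 0 1 := fun e => hl1 (by
    have := (uE_inj h e).2
    rw [this]; exact CharTwo.add_self_eq_zero 1)
  have hbt : uE h 0 (1 + l) ≠ uE h 0 1 := fun e => hl0 (by
    linear_combination (uE_inj h e).2)
  have haA : a ∉ Subgroup.normalizer (A' : Set G) := fun haN =>
    hat (hA.eq_of_commute_involutions h hao hto haN (hH ht) (hcomm _ _))
  -- a torus through `a` avoiding the involutions of `H'`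
  obtain ⟨B, hBmem, hgood⟩ : ∃ B ∈ toriThrough a (Nat.card A'), ∀ i ∈ H', orderOf i = 2 →
      i ∉ Subgroup.normalizer (B : Set G) := by
    by_contra hno
    simp only [not_exists, not_and, not_forall, not_not] at hno
    let I := {i : G // i ∈ Subgroup.normalizer (A' : Set G) ∧ orderOf i = 2}
    have hsub : toriThrough a (Nat.card A') ⊆
        Set.range fun i : I => Subgroup.centralizer ({(i : G) * a} : Set G) := by
      intro B hB
      obtain ⟨i, hiH, hio, hiN⟩ := hno B hB
      obtain ⟨hBt, -, haB⟩ := hB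
      refine ⟨⟨i, hH hiH, hio⟩, hBt.eq_centralizer h (hBt.involution_mul_mem h hio hao hiN haB) ?_⟩
      intro e
      have hia : i = a := by
        have e' : i * a = 1 := e
        rw [mul_eq_one_iff_eq_inv.1 e']
        exact inv_eq_of_mul_eq_one_right (by rw [← sq, ← hao]; exact pow_orderOf_eq_one a)
      exact haA (hia ▸ hH hiH)
    have h1 : (toriThrough a (Nat.card A')).ncard ≤ Nat.card I := by
      refine (Set.ncard_le_ncard hsub (Set.finite_range _)).trans ?_
      rw [← Nat.card_coe_set_eq]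
      exact Finite.card_range_le _
    have h2 : Nat.card I = Nat.card A' * 1 := by
      rw [← Nat.totient_two]
      exact hA.card_orderOf h (by unfold torusWeight; split_ifs <;> norm_num) (by norm_num)
    have h3 := ncard_toriThrough_two h hao hA.2
    have h4 : torusWeight m (Nat.card A') ≤ 4 := by unfold torusWeight; split_ifs <;> norm_num
    have hq : 8 ≤ Nat.card F := by
      rw [h.card]; exact Nat.pow_le_pow_right (by norm_num : 0 < 2)
        (show 3 ≤ 2 * m + 1 by have := h.pos; omega)
    have h5 : Nat.card A' < 2 * Nat.card F := by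
      have := h.sigma_add_two_lt
      have := h.four_le
      rw [h.card]
      rcases hA.2 with e | e | (e : Nat.card A' = _) <;> rw [e] <;> omega
    rw [h2, mul_one] at h1
    have h6 : Nat.card F ^ 2 ≤ Nat.card A' * 4 := by
      rw [← h3]; exact Nat.mul_le_mul h1 h4
    have h7 : 8 * Nat.card F ≤ Nat.card F ^ 2 := by rw [sq]; exact Nat.mul_le_mul_right _ hq
    omega
  obtain ⟨hBt, hBk, haB⟩ := hBmem
  -- conjugate `t` to `a`, carrying `A'` to `B`
  obtain ⟨x₀, hx₀⟩ := hA.exists_conj h hBt hBk.symm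
  set i₀ := x₀ * uE h 0 1 * x₀⁻¹ with hi₀
  have hi₀o : orderOf i₀ = 2 := by rw [hi₀, orderOf_conj_eq, hto]
  have hi₀N : i₀ ∈ Subgroup.normalizer (B : Set G) := by
    rw [← hx₀, hi₀]; exact mem_normalizer_conjBy h (hH ht)
  have hodd : Odd (orderOf (i₀ * a)) := by
    rw [← Nat.not_even_iff_odd, even_iff_two_dvd]
    exact fun e => hBt.odd_card h (e.trans
      (Subgroup.orderOf_dvd_natCard B (hBt.involution_mul_mem h hi₀o hao hi₀N haB)))
  obtain ⟨e, he, hea⟩ := involutions_conj
    (by rw [← sq, ← hi₀o]; exact pow_orderOf_eq_one i₀)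
    (by rw [← sq, ← hao]; exact pow_orderOf_eq_one a) hodd
  have heN : e ∈ Subgroup.normalizer (B : Set G) := by
    refine (Subgroup.closure_le _).2 ?_ he
    rintro g (rfl | rfl)
    · exact hi₀N
    · exact haB
  set x := e * x₀ with hx
  have hxB : conjBy x A' = B := by
    rw [hx, ← conjBy_conjBy, hx₀]
    ext g
    rw [mem_conjBy]
    exact (Subgroup.mem_normalizer_iff''.1 heN g).symm
  obtain ⟨s, hs⟩ := exists_lam_eq h hl1
  refine not_binary_of_triple (H := H') (x := x) (y := dE h s) (z := uE h 0 1) (a := a) ht ?_ ?_ ?_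
    hbin
  · rw [show x⁻¹ * a * x = uE h 0 1 by rw [← hea, hx, hi₀]; group]
    exact ht
  · have e1 : a⁻¹ * uE h 0 1 = dE h s * uE h 0 1 * (dE h s)⁻¹ := by
      rw [inv_mul_eq_iff_eq_mul, dE_conj, ha, uE_mul]
      congr 1
      · simp
      · show (1 : F) = l + lam m s * 1 + sg m 0 * _
        rw [hs, sg_zero]
        linear_combination -l * h.two_eq_zero
    rw [e1, show (dE h s)⁻¹ * (dE h s * uE h 0 1 * (dE h s)⁻¹) * dE h s = uE h 0 1 by group]
    exact ht
  · intro g hg hgx hgy
    have hg1 : g = 1 := by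
      by_contra hne
      have hgB : g ∈ Subgroup.normalizer (B : Set G) := by
        have := mem_normalizer_conjBy h (x := x) (hH hgx)
        rwa [hxB, show x * (x⁻¹ * g * x) * x⁻¹ = g by group] at this
      rcases Nat.even_or_odd (orderOf g) with hev | hodd'
      · obtain ⟨r, hr⟩ := hev
        refine hgood (g ^ r) (H'.pow_mem hg r) ?_
          ((Subgroup.normalizer (B : Set G)).pow_mem hgB r)
        have hpos := orderOf_pos g
        rw [orderOf_pow' _ (by omega), show orderOf g = r * 2 by omega,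
          Nat.gcd_eq_right (dvd_mul_right r 2), Nat.mul_div_cancel_left 2 (by omega)]
      · have hin : ∀ {C : Subgroup G}, IsTorus C → g ∈ Subgroup.normalizer (C : Set G) → g ∈ C := by
          intro C hC hgC
          by_contra hgn
          have hN := hC.card_normalizer h
          have h4 : g ^ Nat.card C ∈ Subgroup.normalizer (C : Set G) := Subgroup.pow_mem _ hgC _
          have hdvd : orderOf g ∣ torusWeight m (Nat.card C) * Nat.card C := by
            rw [← hN]; exact Subgroup.orderOf_dvd_natCard _ hgC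
          have hcop : Nat.Coprime (orderOf g) (torusWeight m (Nat.card C)) := by
            have h2 : Nat.Coprime (orderOf g) 2 :=
              Nat.Coprime.symm ((Nat.prime_two.coprime_iff_not_dvd).2
                (fun e => Nat.not_even_iff_odd.2 hodd' (even_iff_two_dvd.2 e)))
            unfold torusWeight
            split_ifs
            · exact h2
            · show Nat.Coprime _ (2 ^ 2)
              exact h2.pow_right 2
          have hk : orderOf g ∣ Nat.card C := hcop.dvd_of_dvd_mul_left hdvd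
          have hnormal : (C.subgroupOf (Subgroup.normalizer (C : Set G))).Normal :=
            IsTorus.normal_subgroupOf h
          have h5 := pow_card_eq_one' (x := ((⟨g, hgC⟩ : Subgroup.normalizer (C : Set G)) :
            Subgroup.normalizer (C : Set G) ⧸ C.subgroupOf _))
          rw [← Subgroup.index, hC.index_subgroupOf h, ← QuotientGroup.mk_pow,
            QuotientGroup.eq_one_iff, Subgroup.mem_subgroupOf] at h5
          have h6 : g ^ torusWeight m (Nat.card C) ∈ C := h5
          have h7 := hC.pow_mem_eq_one h hgn h6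
          exact hne (orderOf_eq_one_iff.1
            (Nat.eq_one_of_dvd_coprimes hcop dvd_rfl (orderOf_dvd_of_pow_eq_one h7)))
        have hAB := hA.eq_of_mem h hBt (hin hA (hH hg)) (hin hBt hgB) hne
        exact haA (hAB ▸ haB)
    subst hg1
    rw [inv_one, one_mul] at hgy
    have h1 := mem_normalizer_conjBy h (x := dE h s) (hH hgy)
    rw [show dE h s * ((dE h s)⁻¹ * uE h 0 1 * dE h s) * (dE h s)⁻¹ = uE h 0 1 by group] at h1
    have h2 := mem_normalizer_conjBy h (x := dE h s) (hH ht)
    rw [dE_conj, mul_zero] at h2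
    have hA2 : IsTorus (conjBy (dE h s) A') :=
      ⟨(A'.equivMapOfInjective _ (MulAut.conj (dE h s)).injective).isCyclic.1 hA.1,
        by rw [Subgroup.card_map_of_injective (MulAut.conj _).injective]; exact hA.2⟩
    have e2 : lam m s * 1 = 1 + l := by rw [mul_one, hs]
    have h2' : uE h 0 (1 + l) ∈ Subgroup.normalizer ((conjBy (dE h s) A' : Subgroup G) : Set G) := by
      rw [← e2]; exact h2
    exact hbt (hA2.eq_of_commute_involutions h (orderOf_uE_two h hl1) hto h2' h1 (hcomm _ _))

end CfsgLib.Suzuki
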