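/-
Suzuki group: the binary coset actions.
-/
import Cfsg.Agent.Suzuki.Binary.Large
import Cfsg.Agent.Suzuki.Binary.ClassProducts

set_option autoImplicit false

namespace CfsgLib.Suzuki

variable {F : Type*} [Field F] {m : ℕ}

local notation "PP" => Projectivization F (Fin 4 → F)
local notation "G" => SzG F m

section General

variable {X Y : Type*} [Group X] [Group Y]

theorem mem_map_center {K : Subgroup X} {x : X} :
    x ∈ (Subgroup.center K).map K.subtype ↔ x ∈ K ∧ ∀ y ∈ K, y * x = x * y := by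
  constructor
  · rintro ⟨⟨x, hx⟩, hc, rfl⟩
    exact ⟨hx, fun y hy => congrArg Subtype.val (Subgroup.mem_center_iff.1 hc ⟨y, hy⟩)⟩
  · rintro ⟨hx, hc⟩
    exact ⟨⟨x, hx⟩, Subgroup.mem_center_iff.2 fun y => Subtype.ext (hc y y.2), rfl⟩

theorem map_center_map (K : Subgroup X) {f : X →* Y} (hf : Function.Injective f) :
    (Subgroup.center (K.map f)).map (K.map f).subtype = ((Subgroup.center K).map K.subtype).map f := by
  ext y
  rw [mem_map_center, Subgroup.mem_map]
  constructor
  · rintro ⟨⟨x, hx, rfl⟩, hc⟩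
    exact ⟨x, mem_map_center.2 ⟨hx, fun z hz => hf (by
      rw [map_mul, map_mul]; exact hc _ (Subgroup.mem_map_of_mem f hz))⟩, rfl⟩
  · rintro ⟨x, hx, rfl⟩
    obtain ⟨hx, hc⟩ := mem_map_center.1 hx
    refine ⟨Subgroup.mem_map_of_mem f hx, ?_⟩
    rintro _ ⟨z, hz, rfl⟩
    rw [← map_mul, ← map_mul, hc z hz]

end General

variable (h : IsSzField F m)
include h

/-- The centre of `U`, as a subgroup of the Suzuki group. -/
abbrev centralPart : Subgroup G := (Subgroup.center (unip h)).map (unip h).subtype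

theorem mem_centralPart {g : G} : g ∈ centralPart h ↔ ∃ b, g = uE h 0 b := by
  constructor
  · rintro ⟨u, hu, rfl⟩
    exact (mem_center_unip_iff h).1 hu
  · rintro ⟨b, rfl⟩
    exact ⟨⟨_, uE_mem h 0 b⟩, (mem_center_unip_iff h).2 ⟨b, rfl⟩, rfl⟩

theorem borel_conj_center {d : G} (hd : d ∈ borel F m) (b : F) :
    ∃ b', d * uE h 0 b * d⁻¹ = uE h 0 b' := by
  obtain ⟨p, q, t, rfl⟩ := (mem_stab_inf h).1 hd
  exact ⟨_, dE_conj_center h t p q b⟩

/-- Commuting nontrivial elements of two conjugates of the centre lie in one conjugate. -/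
theorem conj_centralPart_eq {c d x y : G} (hx : x ∈ conjBy c (centralPart h))
    (hy : y ∈ conjBy d (centralPart h)) (hx1 : x ≠ 1) (hy1 : y ≠ 1) (e : x * y = y * x) :
    conjBy c (centralPart h) = conjBy d (centralPart h) := by
  rw [mem_conjBy, mem_centralPart] at hx hy
  obtain ⟨b, hb⟩ := hx
  obtain ⟨b', hb'⟩ := hy
  have hb1 : uE h 0 b ≠ 1 := fun e' => hx1 (by
    calc x = c * (c⁻¹ * x * c) * c⁻¹ := by group
      _ = 1 := by rw [hb, e']; group)
  have hb1' : uE h 0 b' ≠ 1 := fun e' => hy1 (by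
    calc y = d * (d⁻¹ * y * d) * d⁻¹ := by group
      _ = 1 := by rw [hb', e']; group)
  have hmem : c⁻¹ * y * c ∈ unip h := centralizer_le_unip h (uE_mem h 0 b) hb1 (by
    rw [Subgroup.mem_centralizer_singleton_iff, ← hb,
      show c⁻¹ * y * c * (c⁻¹ * x * c) = c⁻¹ * (y * x) * c by group, ← e]
    group)
  have hcd : c⁻¹ * d ∈ borel F m := by
    refine mem_borel_of_conj_mem_unip h (uE_mem h 0 b') hb1' ?_
    rwa [← hb', show c⁻¹ * d * (d⁻¹ * y * d) * (c⁻¹ * d)⁻¹ = c⁻¹ * y * c by group]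
  have key : ∀ {c d : G}, c⁻¹ * d ∈ borel F m →
      conjBy d (centralPart h) ≤ conjBy c (centralPart h) := by
    intro c d hcd g hg
    rw [mem_conjBy, mem_centralPart] at hg ⊢
    obtain ⟨b, hb⟩ := hg
    obtain ⟨b', hb'⟩ := borel_conj_center h hcd b
    exact ⟨b', by rw [← hb', ← hb]; group⟩
  exact le_antisymm (key (by rw [show d⁻¹ * c = (c⁻¹ * d)⁻¹ by group]; exact inv_mem hcd)) (key hcd)

/-- The action on the cosets of the centre of `U` is binary. -/
theorem isBinaryCosets_centralPart : IsBinaryCosets (centralPart h) := by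
  classical
  intro n I J hn hpair
  obtain ⟨g₀, hg₀, -⟩ := hpair ⟨0, by omega⟩ ⟨1, by omega⟩ (by simp)
  set i₀ : Fin n := ⟨0, by omega⟩
  have hstab : ∀ (q : G ⧸ (centralPart h)), ∀ c : G, (c : G ⧸ (centralPart h)) = q → ∀ g : G, g • q = q ↔ g ∈ conjBy c (centralPart h) := by
    rintro q c rfl g
    rw [MulAction.Quotient.smul_mk, QuotientGroup.eq, smul_eq_mul, mem_conjBy,
      show (g * c)⁻¹ * c = (c⁻¹ * g * c)⁻¹ by group, inv_mem_iff]
  choose r hr using fun i => QuotientGroup.mk_surjective (s := (centralPart h)) (I i)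
  have hS : ∀ i g, g • I i = I i ↔ g ∈ conjBy (r i) (centralPart h) := fun i g => hstab _ _ (hr i) g
  have huniq : ∀ i, conjBy (r i) (centralPart h) ≠ conjBy (r i₀) (centralPart h) → ∀ w, w ∈ conjBy (r i₀) (centralPart h) →
      w ∈ conjBy (r i) (centralPart h) → w = 1 := by
    intro i hne w hw hw'
    by_contra h1
    exact hne (conj_centralPart_eq h hw' hw h1 h1 rfl)
  -- the elements fixing the base point and moving one further entry correctly
  have hh : ∀ i, ∃ k, k ∈ conjBy (r i₀) (centralPart h) ∧ k • I i = g₀⁻¹ • J i := by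
    intro i
    by_cases hi : i₀ = i
    · refine ⟨1, one_mem _, ?_⟩
      rw [← hi, one_smul, ← hg₀, inv_smul_smul]
    · obtain ⟨g, h1, h2⟩ := hpair i₀ i hi
      refine ⟨g₀⁻¹ * g, (hS i₀ _).1 ?_, ?_⟩
      · rw [mul_smul, h1, ← hg₀, inv_smul_smul]
      · rw [mul_smul, h2]
  choose k hk hki using hh
  obtain ⟨h', hh', hgood⟩ : ∃ h' ∈ conjBy (r i₀) (centralPart h), ∀ i, h' • I i = g₀⁻¹ • J i := by
    by_cases hall : ∀ i, conjBy (r i) (centralPart h) = conjBy (r i₀) (centralPart h)
    · refine ⟨1, one_mem _, fun i => ?_⟩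
      rw [one_smul, ← hki i, (hS i _).2 (by rw [hall i]; exact hk i)]
    simp only [not_forall] at hall
    obtain ⟨a, ha⟩ := hall
    refine ⟨k a, hk a, fun i => ?_⟩
    by_cases hi : conjBy (r i) (centralPart h) = conjBy (r i₀) (centralPart h)
    · rw [← hki i, (hS i _).2 (by rw [hi]; exact hk a), (hS i _).2 (by rw [hi]; exact hk i)]
    by_cases hai : a = i
    · rw [← hai]; exact hki a
    obtain ⟨g, h1, h2⟩ := hpair a i hai
    have hs : (k a)⁻¹ * g₀⁻¹ * g ∈ conjBy (r a) (centralPart h) := (hS a _).1 (by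
      rw [mul_smul, h1, mul_smul, ← hki a, inv_smul_smul])
    have hs' : (k i)⁻¹ * g₀⁻¹ * g ∈ conjBy (r i) (centralPart h) := (hS i _).1 (by
      rw [mul_smul, h2, mul_smul, ← hki i, inv_smul_smul])
    set sa := (k a)⁻¹ * g₀⁻¹ * g
    set si := (k i)⁻¹ * g₀⁻¹ * g
    set w := (k i)⁻¹ * k a with hw
    have hw0 : w ∈ conjBy (r i₀) (centralPart h) := mul_mem (inv_mem (hk i)) (hk a)
    have hwe : w = si * sa⁻¹ := by simp only [hw, si, sa]; group
    have hw1 : w = 1 := by
      by_contra hne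
      by_cases heq : conjBy (r a) (centralPart h) = conjBy (r i) (centralPart h)
      · exact hne (huniq i hi w hw0 (hwe ▸ mul_mem hs' (inv_mem (heq ▸ hs))))
      by_cases hsi : si = 1
      · exact hne (huniq a ha w hw0 (by rw [hwe, hsi, one_mul]; exact inv_mem hs))
      by_cases hsa : sa = 1
      · exact hne (huniq i hi w hw0 (by rw [hwe, hsa, inv_one, mul_one]; exact hs'))
      have hinv : ∀ c : G, ∀ x ∈ conjBy c (centralPart h), x * x = 1 := by
        intro c x hx
        rw [mem_conjBy, mem_centralPart] at hx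
        obtain ⟨b, hb⟩ := hx
        calc x * x = c * (c⁻¹ * x * c * (c⁻¹ * x * c)) * c⁻¹ := by group
          _ = 1 := by rw [hb, uE_sq]; simp [uE_zero]
      have e1 := hinv _ _ hw0
      have e2 := inv_eq_of_mul_eq_one_right (hinv _ _ hs')
      have e3 := inv_eq_of_mul_eq_one_right (hinv _ _ hs)
      rw [hwe, e3] at e1
      have e4 : sa * si = si * sa := by
        have := inv_eq_of_mul_eq_one_right e1
        rwa [mul_inv_rev, e2, e3] at this
      exact heq (conj_centralPart_eq h hs hs' hsa hsi e4)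
    have : k a = k i := by
      rw [hw, inv_mul_eq_one] at hw1
      exact hw1.symm
    rw [this]; exact hki i
  exact ⟨g₀ * h', fun i => by rw [mul_smul, hgood, smul_inv_smul]⟩

/-- Subgroups of the Borel subgroup. -/
theorem borel_case {H : Subgroup G} (hB : H ≤ borel F m) (hbot : H ≠ ⊥)
    (hZ : H ≠ centralPart h) : ¬ IsBinaryCosets H := by
  have := h.finite
  by_cases hU : H ≤ unip h
  · by_cases h4 : ∃ a b, a ≠ 0 ∧ uE h a b ∈ H
    · obtain ⟨a, b, ha, hm⟩ := h4
      exact not_binary_four h hU ha hm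
    have hel : ∀ g ∈ H, ∃ b, g = uE h 0 b := by
      intro g hg
      obtain ⟨a, b, rfl⟩ := exists_uE h (hU hg)
      refine ⟨b, ?_⟩
      rw [show a = 0 from by_contra fun ha => h4 ⟨a, b, ha, hg⟩]
    by_cases hd : ∃ d, d ∉ centerCoords h H
    · obtain ⟨d, hd⟩ := hd
      exact not_binary_elementary h hel hbot hd
    simp only [not_exists, not_not] at hd
    refine absurd ?_ hZ
    ext g
    rw [mem_centralPart]
    exact ⟨hel g, fun ⟨b, hb⟩ => hb ▸ hd b⟩
  obtain ⟨g, hg, hgU⟩ := SetLike.not_le_iff_exists.1 hU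
  obtain ⟨x, y, hxy⟩ := exists_second_fixed h (hB hg) hgU
  obtain ⟨u, hu, -⟩ := existsUnique_unip h (pt_mem x y) (pt_mem (0 : F) 0) (pt_ne_inf _ _)
    (pt_ne_inf _ _)
  have hu' : (u : G) • pt m x y = pt m (0 : F) 0 := hu
  have huB : (u : G) ∈ borel F m := unip_le_stab h u.2
  obtain ⟨t₀, ht⟩ : (u : G) * g * (u : G)⁻¹ ∈ torus h := by
    rw [mem_torus_iff]
    constructor
    · exact ((borel F m).mul_mem ((borel F m).mul_mem huB (hB hg)) ((borel F m).inv_mem huB) :
        (u : G) * g * (u : G)⁻¹ ∈ borel F m)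
    · rw [← hu', mul_smul, mul_smul, inv_smul_smul, hxy]
  have ht0 : t₀ ≠ 1 := fun e => hgU (by
    rw [e, map_one] at ht
    rw [show g = 1 from conj_eq_one_iff.1 ht.symm]
    exact (unip h).one_mem)
  have hH' : conjBy (u : G) H ≤ borel F m := by
    intro x hx
    rw [mem_conjBy] at hx
    have := (borel F m).mul_mem ((borel F m).mul_mem huB (hB hx)) ((borel F m).inv_mem huB)
    rwa [show (u : G) * ((u : G)⁻¹ * x * u) * (u : G)⁻¹ = x by group] at this
  have htm : dE h t₀ ∈ conjBy (u : G) H := by rw [ht]; exact ⟨g, hg, rfl⟩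
  rw [← isBinaryCosets_map_conj_iff (u : G)]
  by_cases hd : ∃ d, d ∉ centerCoords h (conjBy (u : G) H)
  · obtain ⟨d, hd⟩ := hd
    exact not_binary_center h ht0 htm hd fun c _ g hg _ => hH' hg
  simp only [not_exists, not_not] at hd
  by_cases ha : ∃ a, uE h a 0 ∉ conjBy (u : G) H
  · obtain ⟨a, ha⟩ := ha
    exact not_binary_above_center h hH' ht0 htm (fun b => hd b) ha
  simp only [not_exists, not_not] at ha
  refine not_binary_above_unip h (fun x hx => ?_) hH'
  obtain ⟨a, b, rfl⟩ := exists_uE h hx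
  have := (conjBy (u : G) H).mul_mem (ha a) (hd b)
  rw [uE_mul] at this
  simpa using this

theorem IsTorus.mem_of_odd {A : Subgroup G} (hA : IsTorus A) {g : G}
    (hg : g ∈ Subgroup.normalizer (A : Set G)) (hodd : ¬ 2 ∣ orderOf g) : g ∈ A := by
  by_contra hgn
  have hnormal : (A.subgroupOf (Subgroup.normalizer (A : Set G))).Normal :=
    IsTorus.normal_subgroupOf h
  have := finite_G h
  have h5 := pow_card_eq_one' (x := ((⟨g, hg⟩ : Subgroup.normalizer (A : Set G)) :
    Subgroup.normalizer (A : Set G) ⧸ A.subgroupOf _))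
  rw [← Subgroup.index, hA.index_subgroupOf h, ← QuotientGroup.mk_pow, QuotientGroup.eq_one_iff,
    Subgroup.mem_subgroupOf] at h5
  have h6 : g ^ torusWeight m (Nat.card A) ∈ A := h5
  have h7 := orderOf_dvd_of_pow_eq_one (hA.pow_mem_eq_one h hgn h6)
  have h2 : Nat.Coprime (orderOf g) 2 :=
    Nat.Coprime.symm ((Nat.prime_two.coprime_iff_not_dvd).2 hodd)
  have hcop : Nat.Coprime (orderOf g) (torusWeight m (Nat.card A)) := by
    unfold torusWeight
    split_ifs
    · exact h2
    · show Nat.Coprime _ (2 ^ 2)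
      exact h2.pow_right 2
  exact hgn (orderOf_eq_one_iff.1 (Nat.eq_one_of_dvd_coprimes hcop dvd_rfl h7) ▸ A.one_mem)

/-- The binary coset actions of the Suzuki group. -/
theorem isBinaryCosets_iff {H : Subgroup G} (hH : H ≠ ⊤) :
    IsBinaryCosets H ↔ H = ⊥ ∨ ∃ c : G, H = conjBy c (centralPart h) := by
  have := h.finite
  have := finite_G h
  constructor
  · intro hbin
    by_contra hno
    simp only [not_or, not_exists] at hno
    obtain ⟨hbot, hZ⟩ := hno
    rcases subgroup_cases h H with ⟨p, hp, hfix⟩ | ⟨A, hAc, hAk, hHA⟩ | ⟨j, hj, hdiv, φ, c, e⟩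
    · obtain ⟨c, hc, hcp⟩ := exists_move h hp
      set C : G := ⟨c, hc⟩
      refine borel_case h (H := conjBy C⁻¹ H) (fun x hx => ?_) (fun e => hbot ?_) (fun e => hZ C ?_)
        ((isBinaryCosets_map_conj_iff C⁻¹).2 hbin)
      · rw [mem_conjBy, inv_inv] at hx
        have h1 := hfix _ hx
        have hCp : C • inf F = p := hcp
        rw [mul_smul, mul_smul, ← hCp, inv_smul_smul] at h1
        show x • inf F = inf F
        exact MulAction.injective C h1
      · exact (Subgroup.map_eq_bot_iff_of_injective _ (MulAut.conj C⁻¹).injective).1 e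
      · rw [← e, conjBy_conjBy, mul_inv_cancel, conjBy_one]
    · have hA : IsTorus A := ⟨hAc, hAk⟩
      by_cases h2 : ∃ g ∈ H, 2 ∣ orderOf g
      · obtain ⟨g, hg, r, hr⟩ := h2
        refine not_binary_normalizer h hA hHA (H.pow_mem hg r) ?_ hbin
        have := orderOf_pos g
        rw [orderOf_pow' _ (by omega), hr, Nat.gcd_eq_right (dvd_mul_left r 2),
          Nat.mul_div_cancel _ (by omega)]
      simp only [not_exists, not_and] at h2
      exact not_binary_torus h hA (fun g hg => hA.mem_of_odd h (hHA hg) (h2 g hg)) hbot hbin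
    · rcases Nat.lt_or_ge j m with hlt | hge
      · refine not_binary_subfield h φ (galoisField_isSzField hj) hdiv hlt ?_
        rw [← e]
        exact (isBinaryCosets_map_conj_iff c).2 hbin
      · obtain rfl : j = m := by
          have := Nat.le_of_dvd (by omega) hdiv
          omega
        exact hH (conjBy_eq_top h (e.trans (range_szMap_eq_top h φ _ hdiv)))
  · rintro (rfl | ⟨c, rfl⟩)
    · exact isBinaryCosets_bot
    · exact (isBinaryCosets_map_conj_iff c).2 (isBinaryCosets_centralPart h)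

end CfsgLib.Suzuki
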